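import Cfsg.Agent.Lib.PSLBinary.Translations

/-!
# Coset actions of `PSL₂(q)` on subgroups containing all translations

Such an action is binary exactly when `q` is even and the subgroup is the group of translations,
a Sylow 2-subgroup.
-/

set_option autoImplicit false

namespace Cfsg.Agent.Lib.PSLBinary

open Cfsg.Agent.Lib.SuzukiBinary Cfsg.Agent.Lib.SL2

variable {F : Type*} [Field F]

/-- The diagonal parameters of `H`. -/
def diagPart (H : Subgroup (PSLtwo F)) : Subgroup Fˣ := H.comap (proj.comp diagHom)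

theorem mem_diagPart {H : Subgroup (PSLtwo F)} {m : Fˣ} :
    m ∈ diagPart H ↔ proj (diag m) ∈ H := Iff.rfl

section

variable {H : Subgroup (PSLtwo F)} (hH : H ≠ ⊤) (hu : ∀ t, proj (upper t) ∈ H)
include hH hu

theorem proj_mem_iff (g : SLtwo F) :
    proj g ∈ H ↔ g 1 0 = 0 ∧ ∃ m ∈ diagPart H, g 0 0 = (m : F) := by
  have hdec : g 1 0 = 0 → ∀ m : Fˣ, g 0 0 = (m : F) →
      g = diag m * upper (g 0 1 / g 0 0) := fun h10 m hm => by
    have hd := det_entries g
    have hm0 : (m : F) ≠ 0 := m.ne_zero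
    rw [h10, mul_zero, sub_zero, hm] at hd
    apply ext_entries <;>
      simp only [mul_00, mul_01, mul_10, mul_11, diag_00, diag_01, diag_10, diag_11, upper_00,
        upper_01, upper_10, upper_11, hm, h10, Units.val_inv_eq_inv_val, mul_zero, zero_mul,
        add_zero, zero_add, mul_one]
    · field_simp
    · field_simp
      linear_combination hd
  constructor
  · intro hg
    have h10 : g 1 0 = 0 := by_contra fun h => hH (eq_top_of_transl hu hg h)
    have hd := det_entries g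
    rw [h10, mul_zero, sub_zero] at hd
    obtain ⟨m, hm⟩ : ∃ m : Fˣ, g 0 0 = (m : F) :=
      ⟨Units.mk0 _ (left_ne_zero_of_mul_eq_one hd), rfl⟩
    refine ⟨h10, m, ?_, hm⟩
    rw [hdec h10 m hm, map_mul] at hg
    rw [mem_diagPart]
    exact (H.mul_mem_cancel_right (hu _)).1 hg
  · rintro ⟨h10, m, hm, hg⟩
    rw [hdec h10 m hg, map_mul]
    exact H.mul_mem hm (hu _)

/-- The point of `π x`, a vector up to the diagonal parameters, is moved to that of `π y`. -/
theorem inv_mul_mem_iff (x g y : SLtwo F) :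
    (proj x)⁻¹ * proj g * proj y ∈ H ↔
      ∃ m ∈ diagPart H, (g * y) 0 0 = (m : F) * x 0 0 ∧ (g * y) 1 0 = (m : F) * x 1 0 := by
  rw [← map_inv, ← map_mul, ← map_mul, proj_mem_iff hH hu, mul_assoc]
  have hd := det_entries x
  generalize g * y = z
  simp only [mul_00, mul_10, inv_00, inv_01, inv_10, inv_11]
  constructor
  · rintro ⟨h10, m, hm, h00⟩
    refine ⟨m, hm, ?_, ?_⟩
    · linear_combination x 0 0 * h00 + x 0 1 * h10 - z 0 0 * hd
    · linear_combination x 1 0 * h00 + x 1 1 * h10 - z 1 0 * hd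
  · rintro ⟨m, hm, e0, e1⟩
    refine ⟨?_, m, hm, ?_⟩
    · linear_combination -x 1 0 * e0 + x 0 0 * e1
    · linear_combination x 1 1 * e0 - x 0 1 * e1 + (m : F) * hd

/-- The same condition with the identity in place of `π x`. -/
theorem one_mul_mem_iff (g y : SLtwo F) :
    proj g * proj y ∈ H ↔ (g * y) 1 0 = 0 ∧ ∃ m ∈ diagPart H, (g * y) 0 0 = (m : F) := by
  rw [← map_mul, proj_mem_iff hH hu]

end

/-- No subgroup with all translations gives a binary action in odd characteristic. -/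
theorem not_binR_of_full_odd [Finite F] (h2 : (2 : F) ≠ 0) {H : Subgroup (PSLtwo F)} (hH : H ≠ ⊤)
    (hu : ∀ t, proj (upper t) ∈ H) : ¬ BinR H := by
  intro hb
  have hn1 : (-1 : Fˣ) ∈ diagPart H := by
    rw [mem_diagPart, show diag (-1 : Fˣ) = -(1 : SLtwo F) from ext_entries (by simp) (by simp)
      (by simp) (by simp [Units.val_inv_eq_inv_val]), proj_neg, map_one]
    exact H.one_mem
  obtain ⟨α, hα, hsq⟩ : ∃ α ∈ diagPart H, ∀ m ∈ diagPart H, m ^ 2 ≠ α := by
    by_contra hno
    push Not at hno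
    let f : diagPart H → diagPart H := fun m => m ^ 2
    have hsurj : Function.Surjective f := fun α => by
      obtain ⟨m, hm, e⟩ := hno α.1 α.2
      exact ⟨⟨m, hm⟩, Subtype.ext e⟩
    have := congrArg (fun m : diagPart H => ((m : Fˣ) : F)) ((Finite.injective_iff_surjective.2 hsurj)
      (a₁ := ⟨-1, hn1⟩) (a₂ := 1) (by simp [f]))
    simp only [Units.val_neg, Units.val_one, OneMemClass.coe_one] at this
    exact h2 (by linear_combination -this)
  have hα0 : (α : F) ≠ 0 := α.ne_zero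
  let c : SLtwo F := ofEntries (α : F) 0 1 (α : F)⁻¹ (by field_simp; simp)
  obtain ⟨g, h1, hw, hc⟩ := hb.three (proj weyl) (proj (lower 1)) 1 (proj weyl) (proj c)
    ⟨1, by simp, by simp⟩
    ⟨proj (upper ((α : F) - 1)), by simpa using hu _, by
      rw [inv_mul_mem_iff hH hu]
      exact ⟨1, one_mem _, by simp [mul_00, c, ofEntries_coe], by simp [mul_10, c, ofEntries_coe]⟩⟩
    (by
      refine ⟨proj (ofEntries (α : F) 0 (1 - (α : F)⁻¹) (α : F)⁻¹ (by field_simp; simp)), ?_, ?_⟩
      · rw [inv_mul_mem_iff hH hu]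
        exact ⟨α⁻¹, inv_mem hα, by simp [mul_00, ofEntries_coe], by
          simp [mul_10, ofEntries_coe, Units.val_inv_eq_inv_val]⟩
      · rw [inv_mul_mem_iff hH hu]
        exact ⟨1, one_mem _, by simp [mul_00, c, ofEntries_coe], by simp [mul_10, c, ofEntries_coe]⟩)
  obtain ⟨g, rfl⟩ := proj_surjective g
  rw [inv_one, one_mul, proj_mem_iff hH hu] at h1
  rw [inv_mul_mem_iff hH hu] at hw hc
  obtain ⟨h10, m, hm, hgm⟩ := h1
  obtain ⟨m1, -, w0, -⟩ := hw
  obtain ⟨m2, -, c0, c1⟩ := hc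
  have hd := det_entries g
  simp [mul_00, mul_10, c, ofEntries_coe, h10, hgm] at w0 c0 c1 hd
  refine hsq m hm (Units.ext ?_)
  rw [w0, add_zero] at c0
  push_cast
  linear_combination (-(m2 : F) * (α : F)) * 0 + (m : F) * c0 + (-(α : F)) * 0 +
    (α : F) * (hd - (m : F) * c1)

/-- In characteristic two only the translations give a binary action. -/
theorem diagPart_eq_bot_of_binR [Finite F] (h2 : (2 : F) = 0) {H : Subgroup (PSLtwo F)}
    (hH : H ≠ ⊤) (hu : ∀ t, proj (upper t) ∈ H) (hb : BinR H) : diagPart H = ⊥ := by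
  refine (Subgroup.eq_bot_iff_forall _).2 fun μ hμ => ?_
  by_contra hμ1
  have hn : ∀ x : F, -x = x := fun x => by linear_combination -x * h2
  have hμ0 : (μ : F) ≠ 0 := μ.ne_zero
  have hμ' : (μ : F) ≠ 1 := fun h => hμ1 (Units.ext h)
  set z : F := (1 + (μ : F)) / (μ : F) with hz
  have hz0 : z ≠ 0 := div_ne_zero (fun h => hμ' (by linear_combination h - h2)) hμ0
  set a : F := (μ : F) + 1 + (μ : F)⁻¹ with ha
  set b : F := (μ : F) + (μ : F)⁻¹ with hb'
  let g23 : SLtwo F := ofEntries a b b a (by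
    rw [ha, hb']; linear_combination ((μ : F) + (μ : F)⁻¹) * h2)
  let I : Fin 4 → SLtwo F := ![1, weyl, lower 1, lower z]
  let J : Fin 4 → SLtwo F := ![1, weyl, lower 1, lower ((μ : F) * z)]
  have ok : ∀ i, i ≠ 3 → (proj (J i))⁻¹ * proj 1 * proj (I i) ∈ H := fun i hi => by
    fin_cases i <;> first | exact absurd rfl hi | simp [I, J]
  have w03 : ∀ i : Fin 4, i = 0 ∨ i = 3 → (proj (J i))⁻¹ * proj (upper 1) * proj (I i) ∈ H := by
    rintro i (rfl | rfl) <;> rw [inv_mul_mem_iff hH hu]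
    · exact ⟨1, one_mem _, by simp [I, J], by simp [I, J]⟩
    · refine ⟨μ⁻¹, inv_mem hμ, ?_, ?_⟩ <;>
        simp [I, J, mul_00, mul_10, hz, Units.val_inv_eq_inv_val] <;> field_simp
      linear_combination (μ : F) * h2
  have w13 : ∀ i : Fin 4, i = 1 ∨ i = 3 →
      (proj (J i))⁻¹ * proj (lower ((μ : F) * z - z)) * proj (I i) ∈ H := by
    rintro i (rfl | rfl) <;> rw [inv_mul_mem_iff hH hu]
    · exact ⟨1, one_mem _, by simp [I, J, mul_00], by simp [I, J, mul_10]⟩
    · exact ⟨1, one_mem _, by simp [I, J, mul_00], by simp [I, J, mul_10]⟩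
  have w23 : ∀ i : Fin 4, i = 2 ∨ i = 3 → (proj (J i))⁻¹ * proj g23 * proj (I i) ∈ H := by
    rintro i (rfl | rfl) <;> rw [inv_mul_mem_iff hH hu]
    · refine ⟨1, one_mem _, ?_, ?_⟩ <;> simp [I, J, g23, ofEntries_coe, mul_00, mul_10, ha, hb']
      · linear_combination ((μ : F) + (μ : F)⁻¹) * h2
      · linear_combination ((μ : F) + (μ : F)⁻¹) * h2
    · refine ⟨μ⁻¹ ^ 2, pow_mem (inv_mem hμ) 2, ?_, ?_⟩ <;>
        simp [I, J, g23, ofEntries_coe, mul_00, mul_10, ha, hb', hz, Units.val_inv_eq_inv_val] <;>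
        field_simp
      · linear_combination ((μ : F) ^ 3 + (μ : F) ^ 2 + (μ : F)) * h2
      · linear_combination ((μ : F) ^ 3 + (μ : F) ^ 2 + (μ : F)) * h2
  obtain ⟨g, hg⟩ := hb 4 (fun i => proj (I i)) (fun i => proj (J i)) (by norm_num) fun i j hij => by
    by_cases hi : i = 3
    · subst hi
      fin_cases j
      · exact ⟨_, w03 _ (Or.inr rfl), w03 _ (Or.inl rfl)⟩
      · exact ⟨_, w13 _ (Or.inr rfl), w13 _ (Or.inl rfl)⟩
      · exact ⟨_, w23 _ (Or.inr rfl), w23 _ (Or.inl rfl)⟩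
      · exact absurd rfl hij
    · by_cases hj : j = 3
      · subst hj
        fin_cases i
        · exact ⟨_, w03 _ (Or.inl rfl), w03 _ (Or.inr rfl)⟩
        · exact ⟨_, w13 _ (Or.inl rfl), w13 _ (Or.inr rfl)⟩
        · exact ⟨_, w23 _ (Or.inl rfl), w23 _ (Or.inr rfl)⟩
        · exact absurd rfl hi
      · exact ⟨_, ok i hi, ok j hj⟩
  obtain ⟨g, rfl⟩ := proj_surjective g
  obtain ⟨m0, -, a0, a1⟩ := (inv_mul_mem_iff hH hu _ _ _).1 (hg 0)
  obtain ⟨m1, -, b0, b1⟩ := (inv_mul_mem_iff hH hu _ _ _).1 (hg 1)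
  obtain ⟨m2, -, c0, c1⟩ := (inv_mul_mem_iff hH hu _ _ _).1 (hg 2)
  obtain ⟨m3, -, d0, d1⟩ := (inv_mul_mem_iff hH hu _ _ _).1 (hg 3)
  simp [I, J, mul_00, mul_10] at a0 a1 b0 b1 c0 c1 d0 d1
  have h10 : g 1 0 = 0 := a1
  have h01 : g 0 1 = 0 := by simpa using b0
  rw [h10, zero_add] at c1 d1
  rw [h01] at c0 d0
  simp only [add_zero, zero_mul] at c0 d0
  apply hμ'
  refine mul_right_cancel₀ (b := (g 0 0) * z) (mul_ne_zero ?_ hz0) ?_
  · intro h
    have hd := det_entries g
    rw [h10, h] at hd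
    simp at hd
  · linear_combination z * c1 - z * c0 - d1 + (μ : F) * z * d0

/-- In characteristic two the translations give a binary action. -/
theorem binR_translations (h2 : (2 : F) = 0) [Finite F] :
    BinR ((proj.comp upperHom).range : Subgroup (PSLtwo F)) := by
  have hn : ∀ x : F, -x = x := fun x => by linear_combination -x * h2
  have hmem : ∀ x : SLtwo F, proj x ∈ ((proj.comp upperHom).range : Subgroup (PSLtwo F)) ↔
      ∃ t, x = upper t := fun x => by
    constructor
    · rintro ⟨t, ht⟩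
      rcases proj_eq_proj_iff.1 ht with h | h
      · exact ⟨_, h⟩
      · refine ⟨t.toAdd, h.trans (ext_entries ?_ ?_ ?_ ?_)⟩ <;> simp [upperHom, hn]
    · rintro ⟨t, rfl⟩
      exact ⟨Multiplicative.ofAdd t, rfl⟩
  refine binR_of_ti ?_ ?_
  · intro g x hx hx1 hgx y hy
    obtain ⟨g, rfl⟩ := proj_surjective g
    obtain ⟨x, rfl⟩ := proj_surjective x
    obtain ⟨y, rfl⟩ := proj_surjective y
    simp only [← map_inv, ← map_mul, hmem] at hx hgx hy ⊢
    obtain ⟨s, rfl⟩ := hx
    obtain ⟨u, rfl⟩ := hy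
    obtain ⟨t, ht⟩ := hgx
    have hs : s ≠ 0 := fun h => hx1 (by rw [h, upper_zero, map_one])
    have h10 : g 1 0 = 0 := by
      have e := congrArg (fun z : SLtwo F => z 1 0) ht
      simp only [mul_00, mul_01, mul_10, mul_11, inv_00, inv_01, inv_10, inv_11, upper_00, upper_01,
        upper_10, upper_11] at e
      exact (pow_eq_zero_iff two_ne_zero).1 (mul_left_cancel₀ hs (show s * g 1 0 ^ 2 = s * 0 by
        linear_combination -e))
    have hd := det_entries g
    rw [h10, mul_zero, sub_zero] at hd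
    refine ⟨g 1 1 ^ 2 * u, ext_entries ?_ ?_ ?_ ?_⟩ <;>
      simp only [mul_00, mul_01, mul_10, mul_11, inv_00, inv_01, inv_10, inv_11, upper_00, upper_01,
        upper_10, upper_11, h10]
    · linear_combination hd
    · ring
    · ring
    · linear_combination hd
  · intro p q a b ha ha1 hb hb1 hc hc1
    obtain ⟨p, rfl⟩ := proj_surjective p
    obtain ⟨q, rfl⟩ := proj_surjective q
    obtain ⟨a, rfl⟩ := proj_surjective a
    obtain ⟨b, rfl⟩ := proj_surjective b
    simp only [← map_inv, ← map_mul, hmem] at ha hb hc ⊢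
    obtain ⟨α, rfl⟩ := ha
    obtain ⟨s, hs⟩ := hb
    obtain ⟨t, ht⟩ := hc
    have hα : α ≠ 0 := fun h => ha1 (by rw [h, upper_zero, map_one])
    have tb : tr b = 0 := by
      have e := tr_conj b p⁻¹
      rw [inv_inv, hs] at e
      rw [← e]
      simp [tr]
      linear_combination h2
    have tc : tr (b⁻¹ * upper α) = 0 := by
      have e := tr_conj (b⁻¹ * upper α) q⁻¹
      rw [inv_inv, ht] at e
      rw [← e]
      simp [tr]
      linear_combination h2
    simp only [tr, mul_00, mul_11, inv_00, inv_01, inv_10, inv_11, upper_00, upper_01, upper_10,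
      upper_11] at tb tc
    have h10 : b 1 0 = 0 := mul_right_cancel₀ hα (show b 1 0 * α = 0 * α by
      linear_combination tb - tc)
    have hd := det_entries b
    rw [h10, mul_zero, sub_zero] at hd
    have h00 : b 0 0 = 1 := by
      refine sub_eq_zero.1 ((pow_eq_zero_iff two_ne_zero).1 ?_)
      linear_combination b 0 0 * tb - hd + (-b 0 0) * h2
    refine ⟨b 0 1, ext_entries h00 rfl h10 ?_⟩
    simp only [upper_11]
    linear_combination tb - h00 + (-1) * h2

end Cfsg.Agent.Lib.PSLBinary
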