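import Mathlib
import Cfsg.Agent.Lib.SuzukiBinary.Core

/-!
# A general obstruction to binarity of a coset action

For `b` the elements lying in every conjugate of `H` that contains `b` form a subgroup.  If the
action on the cosets of `H` is binary and `a = b * c` with `a ∈ H` and `b`, `c` conjugate into `H`,
then `a` is the product of an element of `H` in the subgroup of `b` and an element in that of `c`.
-/

set_option autoImplicit false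

namespace Cfsg.Agent.Lib.PSLBinary

open Cfsg.Agent.Lib.SuzukiBinary

variable {G : Type*} [Group G]

/-- The intersection of the conjugates of `H` containing `b`. -/
def core (H : Subgroup G) (b : G) : Subgroup G where
  carrier := {x | ∀ g : G, g⁻¹ * b * g ∈ H → g⁻¹ * x * g ∈ H}
  one_mem' g _ := by simp
  mul_mem' {x y} hx hy g hg := by
    have := H.mul_mem (hx g hg) (hy g hg)
    rwa [show g⁻¹ * x * g * (g⁻¹ * y * g) = g⁻¹ * (x * y) * g by group] at this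
  inv_mem' {x} hx g hg := by
    have := H.inv_mem (hx g hg)
    rwa [show (g⁻¹ * x * g)⁻¹ = g⁻¹ * x⁻¹ * g by group] at this

theorem mem_core {H : Subgroup G} {b x : G} :
    x ∈ core H b ↔ ∀ g : G, g⁻¹ * b * g ∈ H → g⁻¹ * x * g ∈ H := Iff.rfl

theorem self_mem_core (H : Subgroup G) (b : G) : b ∈ core H b := fun _ hg => hg

/-- The core is normalised by the centraliser. -/
theorem conj_mem_core {H : Subgroup G} {b x t : G} (ht : t * b = b * t) (hx : x ∈ core H b) :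
    t * x * t⁻¹ ∈ core H b := by
  intro g hg
  have := hx (t⁻¹ * g) (by
    rwa [show (t⁻¹ * g)⁻¹ * b * (t⁻¹ * g) = g⁻¹ * (t * b * t⁻¹) * g by group,
      mul_inv_eq_iff_eq_mul.2 ht])
  rwa [show (t⁻¹ * g)⁻¹ * x * (t⁻¹ * g) = g⁻¹ * (t * x * t⁻¹) * g by group] at this

theorem core_le_map {H : Subgroup G} {b g : G} (hg : g⁻¹ * b * g ∈ H) :
    core H b ≤ H.map (MulAut.conj g).toMonoidHom := fun x hx =>
  ⟨g⁻¹ * x * g, hx g hg, by simp [MulAut.conj_apply, mul_assoc]⟩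

theorem BinR.core_split [Finite G] {H : Subgroup G} (hb : BinR H) {a b : G} (ha : a ∈ H)
    (hbc : ∃ g, g⁻¹ * b * g ∈ H) (hcc : ∃ g, g⁻¹ * (b⁻¹ * a) * g ∈ H) :
    ∃ s, s ∈ H ∧ s ∈ core H b ∧ s⁻¹ * a ∈ core H (b⁻¹ * a) := by
  classical
  have := Fintype.ofFinite G
  let ι := Unit ⊕ {g : G // g⁻¹ * b * g ∈ H} ⊕ {g : G // g⁻¹ * (b⁻¹ * a) * g ∈ H}
  let e : ι ≃ Fin (Fintype.card ι) := Fintype.equivFin ι
  let I : ι → G := Sum.elim (fun _ => 1) (Sum.elim Subtype.val Subtype.val)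
  let J : ι → G := Sum.elim (fun _ => 1) (Sum.elim Subtype.val fun g => a * g.1)
  have hw : ∀ i j : ι, ∃ g, (J i)⁻¹ * g * I i ∈ H ∧ (J j)⁻¹ * g * I j ∈ H := by
    have key : ∀ g : G, g⁻¹ * (b⁻¹ * a) * g ∈ H → (a * g)⁻¹ * b * g ∈ H := fun g hg => by
      rw [show (a * g)⁻¹ * b * g = (g⁻¹ * (b⁻¹ * a) * g)⁻¹ by group]
      exact inv_mem hg
    rintro (⟨⟩ | ⟨g, hg⟩ | ⟨g, hg⟩) (⟨⟩ | ⟨k, hk⟩ | ⟨k, hk⟩)
    · exact ⟨1, by simp [I, J], by simp [I, J]⟩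
    · exact ⟨1, by simp [I, J], by simp [I, J]⟩
    · exact ⟨a, by simpa [I, J] using ha, by simp [I, J]⟩
    · exact ⟨1, by simp [I, J], by simp [I, J]⟩
    · exact ⟨1, by simp [I, J], by simp [I, J]⟩
    · exact ⟨b, by simpa [I, J] using hg, by simpa [I, J] using key k hk⟩
    · exact ⟨a, by simp [I, J], by simpa [I, J] using ha⟩
    · exact ⟨b, by simpa [I, J] using key g hg, by simpa [I, J] using hk⟩
    · exact ⟨a, by simp [I, J], by simp [I, J]⟩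
  have h2 : 2 ≤ Fintype.card ι := by
    obtain ⟨g, hg⟩ := hbc
    exact Fintype.one_lt_card_iff.2 ⟨Sum.inl (), Sum.inr (Sum.inl ⟨g, hg⟩), by simp⟩
  obtain ⟨s, hs⟩ := hb (Fintype.card ι) (fun i => I (e.symm i)) (fun i => J (e.symm i)) h2
    fun i j _ => hw _ _
  have hs' : ∀ i : ι, (J i)⁻¹ * s * I i ∈ H := fun i => by simpa using hs (e i)
  refine ⟨s, by simpa [I, J] using hs' (Sum.inl ()), fun g hg => by
    simpa [I, J] using hs' (Sum.inr (Sum.inl ⟨g, hg⟩)), fun g hg => ?_⟩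
  have := H.inv_mem (hs' (Sum.inr (Sum.inr ⟨g, hg⟩)))
  simp only [I, J, Sum.elim_inr] at this
  rw [show g⁻¹ * (s⁻¹ * a) * g = ((a * g)⁻¹ * s * g)⁻¹ by group]
  exact this

/-- A trivial intersection subgroup without a triangle of conjugates gives a binary action. -/
theorem binR_of_ti {H : Subgroup G}
    (hTI : ∀ g x : G, x ∈ H → x ≠ 1 → g⁻¹ * x * g ∈ H → ∀ y ∈ H, g⁻¹ * y * g ∈ H)
    (htri : ∀ p q a b : G, a ∈ H → a ≠ 1 → p⁻¹ * b * p ∈ H → b ≠ 1 →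
      q⁻¹ * (b⁻¹ * a) * q ∈ H → b⁻¹ * a ≠ 1 → b ∈ H) :
    BinR H := by
  classical
  intro n I J hn hp
  -- move the first point to the coset of `H` itself
  let i0 : Fin n := ⟨0, by omega⟩
  let P : Fin n → G := fun i => (I i0)⁻¹ * I i
  let Q : Fin n → G := fun i => (J i0)⁻¹ * J i
  have hp' : ∀ i, i ≠ i0 → ∃ g ∈ H, (Q i)⁻¹ * g * P i ∈ H := fun i hi => by
    obtain ⟨g, h1, h2⟩ := hp i0 i (Ne.symm hi)
    refine ⟨(J i0)⁻¹ * g * I i0, h1, ?_⟩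
    simp only [P, Q]
    rwa [show ((J i0)⁻¹ * J i)⁻¹ * ((J i0)⁻¹ * g * I i0) * ((I i0)⁻¹ * I i) = (J i)⁻¹ * g * I i by
      group]
  suffices h : ∃ g ∈ H, ∀ i, i ≠ i0 → (Q i)⁻¹ * g * P i ∈ H by
    obtain ⟨g, hg, hgi⟩ := h
    refine ⟨J i0 * g * (I i0)⁻¹, fun i => ?_⟩
    rcases eq_or_ne i i0 with rfl | hi
    · simpa [mul_assoc] using hg
    · have := hgi i hi
      simp only [P, Q] at this
      rwa [show (J i)⁻¹ * (J i0 * g * (I i0)⁻¹) * I i =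
        ((J i0)⁻¹ * J i)⁻¹ * g * ((I i0)⁻¹ * I i) by group]
  -- points whose stabiliser is `H` are fixed by everything
  have hfree : ∀ i, i ≠ i0 → (∃ x ∈ H, x ≠ 1 ∧ (P i)⁻¹ * x * P i ∈ H) →
      ∀ g ∈ H, (Q i)⁻¹ * g * P i ∈ H := by
    rintro i hi ⟨x, hx, hx1, hxP⟩ g hg
    obtain ⟨k, hk, hkQ⟩ := hp' i hi
    have := H.mul_mem hkQ (hTI (P i) x hx hx1 hxP (k⁻¹ * g) (H.mul_mem (H.inv_mem hk) hg))
    rwa [show (Q i)⁻¹ * k * P i * ((P i)⁻¹ * (k⁻¹ * g) * P i) = (Q i)⁻¹ * g * P i by group] at this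
  by_cases hall : ∀ i, i ≠ i0 → ∃ x ∈ H, x ≠ 1 ∧ (P i)⁻¹ * x * P i ∈ H
  · exact ⟨1, H.one_mem, fun i hi => hfree i hi (hall i hi) 1 H.one_mem⟩
  push Not at hall
  obtain ⟨i1, hi1, hfree1⟩ := hall
  obtain ⟨g, hg, hgQ⟩ := hp' i1 hi1
  refine ⟨g, hg, fun i hi => ?_⟩
  by_cases hfx : ∃ x ∈ H, x ≠ 1 ∧ (P i)⁻¹ * x * P i ∈ H
  · exact hfree i hi hfx g hg
  rcases eq_or_ne i i1 with rfl | hne
  · exact hgQ
  obtain ⟨k, hk, hkQ⟩ := hp' i hi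
  obtain ⟨m, hm1, hm2⟩ : ∃ m, (Q i1)⁻¹ * m * P i1 ∈ H ∧ (Q i)⁻¹ * m * P i ∈ H := by
    obtain ⟨m, h1, h2⟩ := hp i1 i (Ne.symm hne)
    refine ⟨(J i0)⁻¹ * m * I i0, ?_, ?_⟩ <;> simp only [P, Q]
    · rwa [show ((J i0)⁻¹ * J i1)⁻¹ * ((J i0)⁻¹ * m * I i0) * ((I i0)⁻¹ * I i1) =
        (J i1)⁻¹ * m * I i1 by group]
    · rwa [show ((J i0)⁻¹ * J i)⁻¹ * ((J i0)⁻¹ * m * I i0) * ((I i0)⁻¹ * I i) =
        (J i)⁻¹ * m * I i by group]
  have hb : (P i1)⁻¹ * (g⁻¹ * m) * P i1 ∈ H := by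
    have := H.mul_mem (H.inv_mem hgQ) hm1
    rwa [show ((Q i1)⁻¹ * g * P i1)⁻¹ * ((Q i1)⁻¹ * m * P i1) = (P i1)⁻¹ * (g⁻¹ * m) * P i1 by
      group] at this
  have hc : (P i)⁻¹ * ((g⁻¹ * m)⁻¹ * (g⁻¹ * k)) * P i ∈ H := by
    have := H.mul_mem (H.inv_mem hm2) hkQ
    rwa [show ((Q i)⁻¹ * m * P i)⁻¹ * ((Q i)⁻¹ * k * P i) =
      (P i)⁻¹ * ((g⁻¹ * m)⁻¹ * (g⁻¹ * k)) * P i by group] at this
  by_cases ha1 : g⁻¹ * k = 1
  · rw [inv_mul_eq_one] at ha1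
    rwa [ha1]
  exfalso
  have ha : g⁻¹ * k ∈ H := H.mul_mem (H.inv_mem hg) hk
  by_cases hb1 : g⁻¹ * m = 1
  · rw [hb1, inv_one, one_mul] at hc
    exact hfx ⟨_, ha, ha1, hc⟩
  by_cases hc1 : (g⁻¹ * m)⁻¹ * (g⁻¹ * k) = 1
  · rw [inv_mul_eq_one] at hc1
    exact ha1 (by rw [← hc1]; exact absurd (hfree1 _ (hc1 ▸ ha) hb1 hb) not_false)
  exact hfree1 _ (htri (P i1) (P i) (g⁻¹ * k) (g⁻¹ * m) ha ha1 hb hb1 hc hc1) hb1 hb

theorem binR_bot : BinR (⊥ : Subgroup G) := by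
  refine binR_of_ti (fun g x hx hx1 _ => absurd (Subgroup.mem_bot.1 hx) hx1)
    fun p q a b ha ha1 _ _ _ _ => absurd (Subgroup.mem_bot.1 ha) ha1

end Cfsg.Agent.Lib.PSLBinary
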