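import Cfsg.Agent.Lib.SL2.Partition
import Cfsg.Agent.Lib.PSLBinary.Core

/-!
# Coset actions of `PSL₂(q)` on cyclic subgroups of semisimple elements

Such an action is binary only for a subgroup of order three with `q` an odd power of two.
-/

set_option autoImplicit false

namespace Cfsg.Agent.Lib.PSLBinary

open Cfsg.Agent.Lib.SuzukiBinary Cfsg.Agent.Lib.SL2

variable {F : Type*} [Field F]

theorem mem_torus_of_mem_zpowers {x y : PSLtwo F} (hy : y ∈ Subgroup.zpowers x) : y ∈ torus x :=
  (Subgroup.zpowers_le.2 (mem_torus_self x)) hy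

/-- Conjugates of a cyclic semisimple subgroup meet trivially or coincide. -/
theorem ti_zpowers {x : PSLtwo F} (hx : IsSemi x) (g y : PSLtwo F) (hy : y ∈ Subgroup.zpowers x)
    (hy1 : y ≠ 1) (hgy : g⁻¹ * y * g ∈ Subgroup.zpowers x) :
    ∀ z ∈ Subgroup.zpowers x, g⁻¹ * z * g ∈ Subgroup.zpowers x := by
  intro z hz
  have hyt := torus_eq_of_mem hx.ne_one (mem_torus_of_mem_zpowers hy) hy1
  have hgy1 : g⁻¹ * y * g ≠ 1 := fun h => hy1 (by
    have := congrArg (fun u => g * u * g⁻¹) h
    simpa [mul_assoc] using this)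
  have hgt := torus_eq_of_mem hx.ne_one (mem_torus_of_mem_zpowers hgy) hgy1
  have hn : g⁻¹ * x * g ∈ torus x := by
    rw [← hgt]
    have := (conj_mem_torus_conj_iff (n := g⁻¹) (x := y) (y := x)).2 (hyt ▸ mem_torus_self x)
    simpa using this
  rcases normalizer_torus_semi hx (n := g⁻¹) (by simpa using hn) with h | ⟨-, -, h⟩
  · rw [torus_comm hx.ne_one h (mem_torus_of_mem_zpowers hz), mul_assoc, inv_mul_cancel, mul_one]
    exact hz
  · have := h z (mem_torus_of_mem_zpowers hz)
    rw [inv_inv] at this
    rw [this]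
    exact inv_mem hz

/-- A product of two elements conjugate to the generator outside its torus prevents binarity. -/
theorem not_binR_zpowers_of_pair [Finite F] {g y : SLtwo F} (hg : IsSemi (proj g))
    (hy : tr y = tr g) (hyg : tr (y * g) = tr g)
    (hout : y ∉ Subgroup.centralizer ({g} : Set (SLtwo F))) :
    ¬ BinR (Subgroup.zpowers (proj g)) := by
  have := Fintype.ofFinite F
  intro hb
  have hgs : IsElliptic g ∨ IsSplit g := by
    rcases elliptic_or_split_or_parabolic g with h | h | h
    · exact Or.inl h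
    · exact Or.inr h
    · exact (h.elim hg.tr_ne.1 hg.tr_ne.2).elim
  have hconj : ∀ z : SLtwo F, tr z = tr g →
      ∃ p : PSLtwo F, p⁻¹ * proj z * p = proj g := fun z hz => by
    obtain ⟨k, rfl⟩ := isConj_iff.1 (isConj_of_tr_eq hgs hz.symm)
    exact ⟨proj k, by simp [map_mul, map_inv, mul_assoc]⟩
  obtain ⟨p, hp⟩ := hconj y⁻¹ (by rw [tr_inv, hy])
  obtain ⟨q, hq⟩ := hconj (y * g) hyg
  obtain ⟨s, t, hs, hsp, ht, htq, hst⟩ := hb.two (p := p) (q := q)
    (Subgroup.mem_zpowers (proj g)) (by rw [hp]; exact Subgroup.mem_zpowers _)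
    (by rw [hq]; exact Subgroup.mem_zpowers _)
    (show proj y⁻¹ * proj (y * g) = proj g by rw [← map_mul, inv_mul_cancel_left])
  -- intersections with the two conjugates are trivial
  have triv : ∀ (z : SLtwo F) (p s : PSLtwo F), p⁻¹ * proj z * p = proj g →
      s ∈ Subgroup.zpowers (proj g) → p⁻¹ * s * p ∈ Subgroup.zpowers (proj g) →
      z ∉ Subgroup.centralizer ({g} : Set (SLtwo F)) → s = 1 := by
    intro z p s hz hs hsp hzc
    by_contra hs1
    apply hzc
    have h1 := torus_eq_of_mem hg.ne_one (mem_torus_of_mem_zpowers hs) hs1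
    have h2 := torus_eq_of_mem hg.ne_one (mem_torus_of_mem_zpowers hsp) (fun h => hs1 (by
      have := congrArg (fun u => p * u * p⁻¹) h
      simpa [mul_assoc] using this))
    rw [← proj_mem_torus_iff, ← h1]
    have : p⁻¹ * proj z * p ∈ torus (p⁻¹ * s * p) := by rw [hz, h2]; exact mem_torus_self _
    have := (conj_mem_torus_conj_iff (n := p⁻¹) (x := s) (y := proj z)).1 (by simpa using this)
    exact this
  have e1 := triv y⁻¹ p s hp hs hsp (fun h => hout (by simpa using inv_mem h))
  have e2 := triv (y * g) q t hq ht htq (fun h => hout (by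
    have := Subgroup.mul_mem _ h (inv_mem (Subgroup.mem_centralizer_singleton_iff.2
      (rfl : g * g = g * g)))
    simpa using this))
  rw [e1, e2, mul_one] at hst
  exact hg.ne_one hst.symm

/-- A conic point away from the torus, when the trace is not `-1`. -/
theorem exists_pair [Fintype F] {g : SLtwo F} (hg : IsSemi (proj g)) (h1 : tr g ≠ -1) :
    ∃ g' y : SLtwo F, IsConj g g' ∧ tr y = tr g ∧ tr (y * g') = tr g ∧
      y ∉ Subgroup.centralizer ({g'} : Set (SLtwo F)) := by
  obtain ⟨htne, htne'⟩ := hg.tr_ne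
  have hgs : IsElliptic g ∨ IsSplit g := by
    rcases elliptic_or_split_or_parabolic g with h | h | h
    · exact Or.inl h
    · exact Or.inr h
    · exact (h.elim htne htne').elim
  set t := tr g with htdef
  have htp : t + 2 ≠ 0 := fun h => htne' (by linear_combination h)
  set K : F := (t - 2) * (t + 1) / (t + 2) with hK
  have hK0 : K ≠ 0 := div_ne_zero (mul_ne_zero (sub_ne_zero.2 htne)
    (fun h => h1 (by linear_combination h))) htp
  obtain ⟨z, hz⟩ : ∃ z, normForm t 1 z = K := by
    rcases hgs with hg | hg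
    · exact exists_normForm_of_noRoot hg hK0
    · obtain ⟨l, m, hlm, hd, hne⟩ := isSplit_roots hg
      obtain ⟨z, hz⟩ := (splitEquiv hne).surjective (K, 1)
      refine ⟨z, ?_⟩
      rw [htdef, normForm_eq_of_roots hlm hd]
      simp only [splitEquiv, Equiv.coe_fn_mk, Prod.mk.injEq] at hz
      rw [hz.1, hz.2, mul_one]
  simp only [normForm, one_mul] at hz
  set c : F := z.1 - t / (t + 2) with hc
  set e : F := -z.2 + t / (t + 2) with he
  let y : SLtwo F := ofEntries (t - e) (t + c - t * e) c e (by
    rw [hc, he]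
    rw [hK, eq_div_iff htp] at hz
    field_simp
    linear_combination -(t + 2) * hz)
  refine ⟨comp t 1, y, isConj_of_tr_eq hgs (tr_comp t 1).symm, ?_, ?_, ?_⟩
  · simp [y, tr, ofEntries_coe]
  · simp [y, tr, ofEntries_coe, mul_00, mul_11]
    ring
  · intro hmem
    have hy : tr y = tr (comp t 1) := by rw [tr_comp]; simp [y, tr, ofEntries_coe]
    have htr : tr (comp t 1) ≠ 2 ∧ tr (comp t 1) ≠ -2 := by rw [tr_comp]; exact ⟨htne, htne'⟩
    have hyg : tr (y * comp t 1) = t := by
      simp [y, tr, ofEntries_coe, mul_00, mul_11]; ring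
    rcases eq_or_eq_inv_of_tr htr hmem hy with h | h <;> rw [h] at hyg
    · simp [tr, mul_00, mul_11] at hyg
      rcases mul_eq_zero.1 (show (t - 2) * (t + 1) = 0 by linear_combination hyg) with q | q
      · exact htne (sub_eq_zero.1 q)
      · exact h1 (eq_neg_of_add_eq_zero_left q)
    · rw [inv_mul_cancel] at hyg
      simp [tr] at hyg
      exact htne (by linear_combination -hyg)

/-- Conjugate generators give conjugate actions. -/
theorem binR_zpowers_of_isConj {g g' : SLtwo F} (h : IsConj g g')
    (hb : BinR (Subgroup.zpowers (proj g))) : BinR (Subgroup.zpowers (proj g')) := by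
  obtain ⟨k, rfl⟩ := isConj_iff.1 h
  have := hb.map (MulAut.conj (proj k))
  rwa [MonoidHom.map_zpowers, MulEquiv.coe_toMonoidHom, MulAut.conj_apply, ← map_inv, ← map_mul,
    ← map_mul] at this

/-- A binary action on a cyclic semisimple subgroup. -/
theorem of_binR_zpowers [Fintype F] {x : PSLtwo F} (hx : IsSemi x)
    (hb : BinR (Subgroup.zpowers x)) :
    (2 : F) = 0 ∧ (∀ w : F, w ^ 2 + w + 1 ≠ 0) ∧ Nat.card (Subgroup.zpowers x) = 3 := by
  obtain ⟨g, rfl⟩ := proj_surjective x
  by_cases h1 : tr g = -1
  · by_cases h2 : (2 : F) = 0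
    · have ht : tr g = 1 := by linear_combination h1 + (-1) * h2
      refine ⟨h2, fun w hw => ?_, ?_⟩
      · have hw0 : w ≠ 0 := by rintro rfl; simp at hw
        have hg' : IsConj g (diag (Units.mk0 w hw0)) := by
          refine isConj_of_tr_eq ?_ ?_
          · obtain ⟨g', e, h⟩ := hx
            rcases proj_eq_proj_iff.1 e with r | r
            · rwa [r]
            · rw [r]
              simpa [IsElliptic, IsSplit, tr_neg, show -tr g' = tr g' by
                linear_combination -tr g' * h2] using h
          · rw [ht]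
            simp [tr, Units.val_inv_eq_inv_val]
            field_simp
            linear_combination -hw + w * h2
        have hd : IsSemi (proj (diag (Units.mk0 w hw0))) := by
          obtain ⟨k, hk⟩ := isConj_iff.1 hg'
          rw [← hk, map_mul, map_mul, map_inv]
          exact isSemi_conj hx _
        refine not_binR_zpowers_of_pair hd (y := upper 1 * diag (Units.mk0 w hw0)) ?_ ?_ ?_
          (binR_zpowers_of_isConj hg' hb)
        · simp [tr, mul_00, mul_11]
        · simp [tr, mul_00, mul_01, mul_10, mul_11, Units.val_inv_eq_inv_val]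
          field_simp
          linear_combination (w ^ 2 - 2 * w + 1) * hw
        · intro hmem
          have e := congrArg (fun u : SLtwo F => u 0 1)
            (Subgroup.mem_centralizer_singleton_iff.1 hmem)
          simp [mul_00, mul_01, mul_10, mul_11, Units.val_inv_eq_inv_val] at e
          rcases e with e | e
          · rw [inv_eq_iff_eq_inv] at e
            have e2 : w * w = 1 := by
              nth_rewrite 1 [e]
              exact inv_mul_cancel₀ hw0
            exact hw0 (by linear_combination hw - e2 - h2)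
          · exact hw0 e
      · rw [Nat.card_zpowers]
        refine orderOf_eq_prime ?_ hx.ne_one
        rw [← map_pow, proj_eq_one_iff, mem_center_iff_eq]
        right
        have hd := det_entries g
        simp only [tr] at ht
        apply ext_entries <;>
          simp [pow_succ, mul_00, mul_01, mul_10, mul_11]
        · linear_combination (g 0 0 * g 0 0 + g 0 0 * g 1 1 + g 0 0 - 1) * 0 +
            (g 0 0 ^ 2 + g 0 0 + g 1 0 * g 0 1) * ht - (g 0 0 + 1) * hd
        · linear_combination g 0 1 * ((g 0 0 + g 1 1 + 1) * ht - hd)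
        · linear_combination g 1 0 * ((g 0 0 + g 1 1 + 1) * ht - hd)
        · linear_combination (g 1 1 ^ 2 + g 1 1 + g 1 0 * g 0 1) * ht - (g 1 1 + 1) * hd
    · exfalso
      have hn : IsSemi (proj (-g)) := by rwa [proj_neg]
      obtain ⟨g', y, hc, e1, e2, e3⟩ := exists_pair hn (by
        rw [tr_neg, h1, neg_neg]
        exact fun h => h2 (by linear_combination h))
      obtain ⟨k, hk⟩ := isConj_iff.1 hc
      have hg' : IsSemi (proj g') := by
        rw [← hk, map_mul, map_mul, map_inv]; exact isSemi_conj hn _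
      have et : tr g' = tr (-g) := (tr_eq_of_isConj hc).symm
      refine not_binR_zpowers_of_pair hg' (y := y) (by rw [e1, et]) (by rw [e2, et]) e3
        (binR_zpowers_of_isConj hc ?_)
      rwa [proj_neg]
  · exfalso
    obtain ⟨g', y, hc, e1, e2, e3⟩ := exists_pair hx h1
    obtain ⟨k, hk⟩ := isConj_iff.1 hc
    have hg' : IsSemi (proj g') := by
      rw [← hk, map_mul, map_mul, map_inv]; exact isSemi_conj hx _
    have et : tr g' = tr g := (tr_eq_of_isConj hc).symm
    exact not_binR_zpowers_of_pair hg' (y := y) (by rw [e1, et]) (by rw [e2, et]) e3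
      (binR_zpowers_of_isConj hc hb)

/-- Subgroups of order three give binary actions for `q` an odd power of two. -/
theorem binR_of_card_three [Fintype F] (h2 : (2 : F) = 0) (hw : ∀ w : F, w ^ 2 + w + 1 ≠ 0)
    {H : Subgroup (PSLtwo F)} (hH : Nat.card H = 3) : BinR H := by
  have hn : ∀ z : F, -z = z := fun z => by linear_combination -z * h2
  -- an element of order three has trace one
  have htr : ∀ u : SLtwo F, proj u ≠ 1 → proj u ^ 3 = 1 → tr u = 1 := by
    intro u hu1 hu3
    have hu : u ^ 3 = 1 := by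
      rw [← map_pow, proj_eq_one_iff, mem_center_iff_eq, neg_one_eq_one h2, or_self] at hu3
      exact hu3
    have hnc := notMem_center_of_proj_ne hu1
    by_contra ht
    apply hnc
    rw [mem_center_iff_entries]
    have hd := det_entries u
    have m00 := congrArg (fun z : SLtwo F => z 0 0) hu
    have m01 := congrArg (fun z : SLtwo F => z 0 1) hu
    have m10 := congrArg (fun z : SLtwo F => z 1 0) hu
    have m11 := congrArg (fun z : SLtwo F => z 1 1) hu
    simp [pow_succ, mul_00, mul_01, mul_10, mul_11] at m00 m01 m10 m11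
    set T := tr u with hT
    simp only [tr] at hT
    have hne : T ^ 2 - 1 ≠ 0 := fun h => ht (by
      have : (T - 1) ^ 2 = 0 := by linear_combination h + (1 - T) * h2
      exact sub_eq_zero.1 ((pow_eq_zero_iff two_ne_zero).1 this))
    refine ⟨?_, ?_, ?_⟩
    · refine mul_left_cancel₀ hne ?_
      rw [hT]
      linear_combination m01 + u 0 1 * hd
    · refine mul_left_cancel₀ hne ?_
      rw [hT]
      linear_combination m10 + u 1 0 * hd
    · refine sub_eq_zero.1 (mul_left_cancel₀ hne ?_)
      rw [hT]
      linear_combination m00 - m11 + (u 0 0 - u 1 1) * hd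
  obtain ⟨x, hx⟩ := (isCyclic_of_prime_card (α := H) hH).exists_generator
  have hgen : H = Subgroup.zpowers (x : PSLtwo F) := by
    refine le_antisymm (fun z hz => ?_) (Subgroup.zpowers_le.2 x.2)
    obtain ⟨k, hk⟩ := hx ⟨z, hz⟩
    exact ⟨k, congrArg Subtype.val hk⟩
  obtain ⟨g, hg⟩ := proj_surjective (x : PSLtwo F)
  rw [hgen, ← hg] at hH ⊢
  have hord : orderOf (proj g) = 3 := by rwa [← Nat.card_zpowers]
  have hg1 : proj g ≠ 1 := fun h => by rw [h, orderOf_one] at hord; norm_num at hord
  have ht := htr g hg1 (hord ▸ pow_orderOf_eq_one _)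
  have hell : ∀ u : SLtwo F, tr u = 1 → IsElliptic u := fun u hu w hw' => hw w (by
    rw [hu] at hw'
    linear_combination hw' + w * h2)
  have hsemi : IsSemi (proj g) := ⟨g, rfl, Or.inl (hell g ht)⟩
  refine binR_of_ti (fun a b hb hb1 hab => ti_zpowers hsemi a b hb hb1 hab)
    fun p q a b ha ha1 hb hb1 hc hc1 => ?_
  have horder : ∀ z ∈ Subgroup.zpowers (proj g), z ^ 3 = 1 := fun z hz =>
    orderOf_dvd_iff_pow_eq_one.1 (hord ▸ orderOf_dvd_of_mem_zpowers hz)
  have hconj : ∀ p z : PSLtwo F, p⁻¹ * z * p ∈ Subgroup.zpowers (proj g) → z ^ 3 = 1 :=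
    fun p z h => by
      have := horder _ h
      have e := conj_pow (i := 3) (a := p⁻¹) (b := z)
      rw [inv_inv] at e
      rw [e] at this
      have := congrArg (fun v => p * v * p⁻¹) this
      simpa [mul_assoc] using this
  obtain ⟨A, rfl⟩ := proj_surjective a
  obtain ⟨B, rfl⟩ := proj_surjective b
  have tA := htr A ha1 (horder _ ha)
  have tB := htr B⁻¹ (by rw [map_inv]; simpa using hb1) (by
    rw [map_inv, inv_pow, hconj p _ hb, inv_one])
  have tC := htr (B⁻¹ * A) (by simpa using hc1) (by simpa using hconj q _ hc)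
  -- all three lie in one torus
  obtain ⟨k, hk⟩ := isConj_iff.1
    (isConj_of_tr_eq (h := comp 1 1) (Or.inl (hell A tA)) (by rw [tA, tr_comp]))
  set Y := k * B⁻¹ * k⁻¹ with hY
  have tY : tr Y = 1 := by rw [hY, tr_conj, tB]
  have tYC : tr (Y * comp 1 1) = 1 := by
    rw [← hk, hY, show k * B⁻¹ * k⁻¹ * (k * A * k⁻¹) = k * (B⁻¹ * A) * k⁻¹ by group, tr_conj, tC]
  have hd := det_entries Y
  simp [tr, mul_00, mul_11] at tY tYC
  have key : (Y 1 0 - 1) ^ 2 + (Y 1 0 - 1) * (Y 1 1 - 1) + (Y 1 1 - 1) ^ 2 = 0 := by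
    linear_combination -hd + Y 1 1 * tY - Y 1 0 * tYC + 0 * h2 +
      (1 - 2 * Y 1 0 - Y 1 1 + Y 1 0 * Y 1 1) * h2
  have hE : Y 1 1 = 1 := by
    by_contra hE
    have hE0 : Y 1 1 - 1 ≠ 0 := sub_ne_zero.2 hE
    refine hw ((Y 1 0 - 1) / (Y 1 1 - 1)) ?_
    field_simp
    linear_combination key
  have hC : Y 1 0 = 1 := by
    rw [hE, sub_self] at key
    exact sub_eq_zero.1 ((pow_eq_zero_iff two_ne_zero).1 (by linear_combination key))
  have hYc : Y = comp 1 1 := by
    apply ext_entries <;> simp [hE, hC]
    · linear_combination tY - hE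
    · linear_combination tYC + hC - hE + h2
  rw [hY, ← hk] at hYc
  have hBA : B⁻¹ = A := mul_left_cancel (mul_right_cancel hYc)
  rw [show B = A⁻¹ by rw [← hBA, inv_inv], map_inv]
  exact inv_mem ha

end Cfsg.Agent.Lib.PSLBinary
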