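import Cfsg.Agent.Lib.SL2.KleinFour
import Cfsg.Agent.Lib.PSLBinary.Core

/-!
# Coset actions of `PSL₂(q)`, `q` odd, on subgroups with a small involution centraliser

If the elements of `H` commuting with the involution `w ∈ H` have exponent two and the core of `w`
lies in the centraliser of `w`, the action is not binary.
-/

set_option autoImplicit false

namespace Cfsg.Agent.Lib.PSLBinary

open Cfsg.Agent.Lib.SuzukiBinary Cfsg.Agent.Lib.SL2

theorem core_conj {G : Type*} [Group G] {H : Subgroup G} {b x : G} (p : G) (hx : x ∈ core H b) :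
    p⁻¹ * x * p ∈ core H (p⁻¹ * b * p) := fun g hg => by
  have := hx (p * g) (by
    rwa [show (p * g)⁻¹ * b * (p * g) = g⁻¹ * (p⁻¹ * b * p) * g by group])
  rwa [show (p * g)⁻¹ * x * (p * g) = g⁻¹ * (p⁻¹ * x * p) * g by group] at this

theorem core_le_self {G : Type*} [Group G] {H : Subgroup G} {b x : G} (hb : b ∈ H)
    (hx : x ∈ core H b) : x ∈ H := by
  simpa using hx 1 (by simpa using hb)

variable {F : Type*} [Field F] [Fintype F]

section

variable {w : PSLtwo F} (D : InvolutionData w)

theorem g_mem_torus : D.g ∈ torus w := D.hT ▸ Subgroup.mem_zpowers D.g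

theorem g_commute (hw1 : w ≠ 1) : D.g * w = w * D.g :=
  torus_comm hw1 (g_mem_torus D) (mem_torus_self w)

include D in
theorem involution_in_torus {y : PSLtwo F} (hy : y ∈ torus w) (hyy : y * y = 1) :
    y = 1 ∨ y = w := by
  rw [D.hT, ← mem_powers_iff_mem_zpowers, Submonoid.mem_powers_iff] at hy
  obtain ⟨i, rfl⟩ := hy
  obtain ⟨j, hj⟩ := orderOf_dvd_of_pow_eq_one (show D.g ^ (2 * i) = 1 by
    rw [mul_comm, pow_mul, sq, hyy])
  rw [D.hg] at hj
  obtain ⟨m, hm⟩ := D.heven
  have hk1 : D.g ^ D.k = 1 := by rw [← D.hg]; exact pow_orderOf_eq_one _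
  have hij : i = m * j := by rw [hm] at hj; nlinarith
  rcases Nat.even_or_odd j with ⟨t, ht⟩ | ⟨t, ht⟩
  · left
    rw [hij, ht, show m * (t + t) = D.k * t by rw [hm]; ring, pow_mul, hk1, one_pow]
  · right
    refine Eq.trans ?_ D.hhalf
    rw [hij, ht, show m * (2 * t + 1) = D.k * t + D.k / 2 by
      rw [hm, show (m + m) / 2 = m by omega]; ring, pow_add, pow_mul, hk1, one_pow, one_mul]

theorem g_sq_ne_one (hk : 3 ≤ D.k) : D.g * D.g ≠ 1 := fun h => by
  have := orderOf_le_of_pow_eq_one two_pos (show D.g ^ 2 = 1 by rw [sq, h])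
  rw [D.hg] at this
  omega

/-- A commuting element of the core outside the torus forces `k = 4`. -/
theorem k_eq_four_of_core_outside (hk : 4 ≤ D.k) {H : Subgroup (PSLtwo F)} (hwH : w ∈ H)
    (hw1 : w ≠ 1) (hexp : ∀ x ∈ H, x * w = w * x → x * x = 1) {x : PSLtwo F}
    (hx : x ∈ core H w) (hxw : x * w = w * x) (hxT : x ∉ torus w) : D.k = 4 := by
  obtain ⟨-, hxg, -⟩ := D.hout x hxw hxT
  have hgg : D.g * D.g ∈ core H w := by
    have h1 := Subgroup.mul_mem _ (conj_mem_core (g_commute D hw1) hx) (inv_mem hx)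
    rwa [show D.g * x * D.g⁻¹ * x⁻¹ = D.g * (x * D.g * x⁻¹)⁻¹ by group, hxg, inv_inv] at h1
  have hc : D.g * D.g * w = w * (D.g * D.g) := by
    rw [mul_assoc, g_commute D hw1, ← mul_assoc, g_commute D hw1, mul_assoc]
  have h4 := hexp _ (core_le_self hwH hgg) hc
  have := orderOf_le_of_pow_eq_one (by norm_num : 0 < 4) (show D.g ^ 4 = 1 by
    rw [← h4, pow_succ, pow_succ, pow_succ, pow_one, mul_assoc])
  rw [D.hg] at this
  omega

/-- For `k = 4` the two four-groups in the centraliser of `w` are not conjugate. -/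
theorem not_conj_kleins (hodd : Odd (Fintype.card F)) (hk : D.k = 4) (hw : orderOf w = 2)
    {x y p : PSLtwo F} (hx : x * w = w * x) (hxT : x ∉ torus w) (hy : y * w = w * y)
    (hyT : y ∉ torus w) (hyx : y ≠ x ∧ y ≠ w * x) (h1 : p⁻¹ * y * p = w)
    (h2 : p⁻¹ * w * p = x ∨ p⁻¹ * w * p = w * x) : False := by
  have h20 : (2 : F) ≠ 0 := two_ne_zero_iff_odd.2 hodd
  have hw1 : w ≠ 1 := fun e => by rw [e, orderOf_one] at hw; omega
  have hww := sq_of_orderOf_two hw
  have hwT := mem_torus_self w
  have hxx := (D.hout x hx hxT).1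
  have hyy := (D.hout y hy hyT).1
  have hx1 : x ≠ 1 := fun e => hxT (e ▸ one_mem _)
  have hy1 : y ≠ 1 := fun e => hyT (e ▸ one_mem _)
  have hxw : w ≠ x := fun e => hxT (e ▸ hwT)
  have hyw : w ≠ y := fun e => hyT (e ▸ hwT)
  set V := klein w x hww hxx hx.symm with hV
  set V' := klein w y hww hyy hy.symm with hV'
  have hVK : IsKleinFour V := isKleinFour_klein hww hxx hx.symm hw1 hx1 hxw
  have hV'K : IsKleinFour V' := isKleinFour_klein hww hyy hy.symm hw1 hy1 hyw
  have hmap : V'.map (MulAut.conj p⁻¹).toMonoidHom = V := by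
    refine Subgroup.eq_of_le_of_card_ge ?_
      (by rw [Subgroup.card_map_of_injective (MulEquiv.injective _), hVK.card_four, hV'K.card_four])
    rw [Subgroup.map_le_iff_le_comap]
    intro a ha
    rw [Subgroup.mem_comap]
    have hpw : p⁻¹ * w * p ∈ V := by
      rcases h2 with e | e <;> rw [e, hV, mem_klein]
      · exact Or.inr (Or.inr (Or.inl rfl))
      · exact Or.inr (Or.inr (Or.inr rfl))
    have hpy : p⁻¹ * y * p ∈ V := by rw [h1, hV, mem_klein]; exact Or.inr (Or.inl rfl)
    show (MulAut.conj p⁻¹) a ∈ V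
    rcases mem_klein.1 ha with rfl | rfl | rfl | rfl
    · rw [map_one]; exact one_mem _
    · simpa [MulAut.conj_apply] using hpw
    · simpa [MulAut.conj_apply] using hpy
    · rw [map_mul]
      exact Subgroup.mul_mem _ (by simpa [MulAut.conj_apply] using hpw)
        (by simpa [MulAut.conj_apply] using hpy)
  have hq : Fintype.card F % 8 = 1 ∨ Fintype.card F % 8 = 7 := by
    have := D.hkq
    have := Nat.odd_iff.1 hodd
    omega
  obtain ⟨V₁, V₂, hV₁, hV₂, hne, -⟩ := (kleinFour_classes hodd).2 hq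
  have hall : ∀ W : Subgroup (PSLtwo F), IsKleinFour W →
      ∃ g, W = V.map (MulAut.conj g).toMonoidHom := by
    intro W hW
    have : Nontrivial W := Finite.one_lt_card_iff_nontrivial.1 (by rw [hW.card_four]; norm_num)
    obtain ⟨u, hu⟩ := exists_ne (1 : W)
    have hu2 : orderOf (u : PSLtwo F) = 2 := by
      rw [Subgroup.orderOf_coe]
      exact orderOf_eq_prime (by rw [sq]; exact IsKleinFour.mul_self u) hu
    obtain ⟨c, hc⟩ := isConj_iff.1 (isConj_of_involutions h20 hu2 hw)
    let e := Subgroup.equivMapOfInjective W (MulAut.conj c).toMonoidHom (MulEquiv.injective _)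
    set W' := W.map (MulAut.conj c).toMonoidHom with hW'
    have hW'K : IsKleinFour W' := ⟨(Nat.card_congr e.toEquiv).symm.trans hW.card_four,
      (Monoid.exponent_eq_of_mulEquiv e).symm.trans hW.exponent_two⟩
    have hwW : w ∈ W' := ⟨u, u.2, hc⟩
    obtain ⟨z, hzW, hz1, hzw⟩ : ∃ z ∈ W', z ≠ 1 ∧ z ≠ w := by
      by_contra hcon
      push Not at hcon
      have h4 := Set.ncard_le_ncard (t := ({1, w} : Set (PSLtwo F))) fun a (ha : a ∈ (W' : Set (PSLtwo F))) => by
        by_cases h1 : a = 1
        · exact Or.inl h1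
        · exact Or.inr (hcon a ha h1)
      rw [← Nat.card_coe_set_eq, show Nat.card (W' : Set (PSLtwo F)) = 4 from hW'K.card_four] at h4
      have : ({1, w} : Set (PSLtwo F)).ncard ≤ 2 :=
        le_trans (Set.ncard_insert_le _ _) (by simp)
      omega
    obtain ⟨hww', hzz, hwz, hWe⟩ := klein_eq_of_mem hW'K hwW hzW hw1 hz1 hzw.symm
    have hzT : z ∉ torus w := fun h => (involution_in_torus D h hzz).elim hz1 hzw
    have prod : ∀ {a b : PSLtwo F}, a * w = w * a → a ∉ torus w → b * w = w * b → b ∉ torus w →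
        a * b ∈ torus w := fun {a b} ha ha' hb hb' => by
      obtain ⟨-, -, h1⟩ := D.hout a ha ha'
      obtain ⟨hb2, -, h2⟩ := D.hout b hb hb'
      have := Subgroup.mul_mem _ h1 (inv_mem h2)
      rwa [show a * D.n * (b * D.n)⁻¹ = a * b⁻¹ by group, inv_eq_of_mul_eq_one_right hb2] at this
    have sqw : ∀ t ∈ torus w, t * t ≠ 1 → t * t = w := fun t ht htt => by
      refine (involution_in_torus D (Subgroup.mul_mem _ ht ht) ?_).resolve_left htt
      have h := orderOf_dvd_natCard (⟨t, ht⟩ : torus w)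
      rw [Subgroup.orderOf_mk, D.hk, hk, orderOf_dvd_iff_pow_eq_one] at h
      rw [← h]
      simp [pow_succ, mul_assoc]
    have key : z = x ∨ z = w * x ∨ z = y ∨ z = w * y := by
      have e1 := prod hwz.symm hzT hx hxT
      have e2 := prod hy hyT hx hxT
      by_cases h : z * x * (z * x) = 1
      · rcases involution_in_torus D e1 h with e | e
        · exact Or.inl ((mul_eq_one_iff_eq_inv.1 e).trans (inv_eq_of_mul_eq_one_right hxx))
        · right; left
          rw [← e, mul_assoc, hxx, mul_one]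
      · have hyx' : y * x * (y * x) ≠ 1 := fun h' => by
          rcases involution_in_torus D e2 h' with e | e
          · exact hyx.1 ((mul_eq_one_iff_eq_inv.1 e).trans (inv_eq_of_mul_eq_one_right hxx))
          · exact hyx.2 (by rw [← e, mul_assoc, hxx, mul_one])
        have s1 := sqw _ e1 h
        have s2 := sqw _ e2 hyx'
        have hc' := torus_comm hw1 e1 (inv_mem e2)
        have : z * x * (y * x)⁻¹ * (z * x * (y * x)⁻¹) = 1 := by
          calc z * x * (y * x)⁻¹ * (z * x * (y * x)⁻¹)
              = z * x * ((y * x)⁻¹ * (z * x)) * (y * x)⁻¹ := by group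
            _ = z * x * (z * x) * (y * x * (y * x))⁻¹ := by rw [← hc']; group
            _ = 1 := by rw [s1, s2, mul_inv_cancel]
        rcases involution_in_torus D (Subgroup.mul_mem _ e1 (inv_mem e2)) this with e | e
        · right; right; left
          rw [mul_inv_eq_one] at e
          exact mul_right_cancel e
        · right; right; right
          rw [mul_inv_eq_iff_eq_mul, ← mul_assoc] at e
          exact mul_right_cancel e
    have hWcases : W' = V ∨ W' = V' := by
      have hzmem : z ∈ V ∨ z ∈ V' := by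
        simp only [hV, hV', mem_klein]
        rcases key with e | e | e | e <;> simp [e]
      have : ∀ (U : Subgroup (PSLtwo F)), IsKleinFour U → w ∈ U → z ∈ U → W' = U := fun U hU hwU hzU => by
        obtain ⟨_, _, _, hUe⟩ := klein_eq_of_mem hU hwU hzU hw1 hz1 hzw.symm
        rw [hWe, hUe]
      rcases hzmem with h | h
      · exact Or.inl (this V hVK (Or.inr (Or.inl rfl)) h)
      · exact Or.inr (this V' hV'K (Or.inr (Or.inl rfl)) h)
    have hback : W = W'.map (MulAut.conj c⁻¹).toMonoidHom := by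
      rw [hW', Subgroup.map_map]
      ext a; simp [mul_assoc]
    rcases hWcases with e | e <;> rw [e] at hback
    · exact ⟨_, hback⟩
    · refine ⟨c⁻¹ * p, ?_⟩
      rw [hback, ← hmap, Subgroup.map_map]
      congr 1
      ext a; simp [mul_assoc]
  obtain ⟨a, ha⟩ := hall V₁ hV₁
  obtain ⟨b, hb⟩ := hall V₂ hV₂
  refine hne ⟨b * a⁻¹, ?_⟩
  rw [hb, ha, Subgroup.map_map]
  congr 1
  ext z; simp [mul_assoc]

/-- Core inside the centraliser: no binary action. -/
theorem not_binR_of_core_comm (hodd : Odd (Fintype.card F)) (hk : 4 ≤ D.k)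
    {H : Subgroup (PSLtwo F)} (hwH : w ∈ H) (hw : orderOf w = 2)
    (hexp : ∀ x ∈ H, x * w = w * x → x * x = 1)
    (hcore : ∀ x ∈ core H w, x * w = w * x) : ¬ BinR H := by
  intro hb
  have h2 : (2 : F) ≠ 0 := two_ne_zero_iff_odd.2 hodd
  have hw1 : w ≠ 1 := fun e => by rw [e, orderOf_one] at hw; omega
  have hww := sq_of_orderOf_two hw
  -- an involution of the centraliser outside `H` and outside the torus
  have hgH : D.g ∉ H := fun h => g_sq_ne_one D (by omega) (hexp _ h (g_commute D hw1))
  obtain ⟨b, hbw, hbT, hbH⟩ : ∃ b, b * w = w * b ∧ b ∉ torus w ∧ b ∉ H := by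
    by_cases hn : D.n ∈ H
    · refine ⟨D.n * D.g, ?_, fun h => D.hn ?_, fun h => hgH ((H.mul_mem_cancel_left hn).1 h)⟩
      · rw [mul_assoc, g_commute D hw1, ← mul_assoc, D.hcomm, mul_assoc]
      · exact ((torus w).mul_mem_cancel_right (g_mem_torus D)).1 h
    · exact ⟨D.n, D.hcomm, D.hn, hn⟩
  obtain ⟨hbb, -, -⟩ := D.hout b hbw hbT
  have hbinv : b⁻¹ = b := inv_eq_of_mul_eq_one_right hbb
  have hb1 : b ≠ 1 := fun e => hbT (e ▸ one_mem _)
  have hord : ∀ {z : PSLtwo F}, z * z = 1 → z ≠ 1 → orderOf z = 2 := fun {z} h h' =>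
    orderOf_eq_prime (by rw [sq]; exact h) h'
  have hbo := hord hbb hb1
  set c := b⁻¹ * w with hc
  have hcb : c = b * w := by rw [hc, hbinv]
  have hcw : c * w = w * c := by rw [hcb, mul_assoc, ← mul_assoc w b w, ← hbw, mul_assoc]
  have hcT : c ∉ torus w := fun h => hbT (by
    rw [hcb] at h; exact ((torus w).mul_mem_cancel_right (mem_torus_self w)).1 h)
  have hcH : c ∉ H := fun h => hbH (by rw [hcb] at h; exact (H.mul_mem_cancel_right hwH).1 h)
  obtain ⟨hcc, -, -⟩ := D.hout c hcw hcT
  have hco := hord hcc (fun e => hcT (e ▸ one_mem _))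
  have hconj : ∀ {z : PSLtwo F}, orderOf z = 2 → ∃ p : PSLtwo F, p⁻¹ * z * p = w := fun {z} hz => by
    obtain ⟨p, hp⟩ := isConj_iff.1 (isConj_of_involutions h2 hw hz)
    exact ⟨p, by rw [← hp]; group⟩
  obtain ⟨p, hp⟩ := hconj hbo
  obtain ⟨r, hr⟩ := hconj hco
  obtain ⟨s, hsH, hsb, hsc⟩ := Cfsg.Agent.Lib.PSLBinary.BinR.core_split hb hwH ⟨p, by rw [hp]; exact hwH⟩
    ⟨r, by rw [← hc, hr]; exact hwH⟩
  rw [← hc] at hsc
  have transfer : ∀ {z : PSLtwo F} (p : PSLtwo F), p⁻¹ * z * p = w → ∀ u ∈ core H z,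
      p⁻¹ * u * p ∈ core H w := fun {z} p hp u hu => hp ▸ core_conj p hu
  have comm_of : ∀ {z : PSLtwo F} (p : PSLtwo F), p⁻¹ * z * p = w → ∀ u ∈ core H z,
      u * z = z * u := fun {z} p hp u hu => by
    have h := hcore _ (transfer p hp u hu)
    rw [← hp] at h
    have := congrArg (fun v => p * v * p⁻¹) h
    simpa [mul_assoc] using this
  by_cases hall : ∀ x ∈ core H w, x ∈ torus w
  · -- cores are inside tori
    have tor : ∀ {z : PSLtwo F} (p : PSLtwo F), p⁻¹ * z * p = w → ∀ u ∈ core H z,
        u ∈ torus z := fun {z} p hp u hu => by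
      have h := hall _ (transfer p hp u hu)
      rw [← hp] at h
      exact (conj_mem_torus_conj_iff (n := p⁻¹)).1 (by simpa using h)
    have hst := tor p hp s hsb
    have hwt : w ∉ torus b := fun h => by
      obtain ⟨Db⟩ := exists_involutionData h2 hbo
      rcases involution_in_torus Db h hww with e | e
      · exact hw1 e
      · exact hbH (e ▸ hwH)
    obtain ⟨Db⟩ := exists_involutionData h2 hbo
    obtain ⟨Dc⟩ := exists_involutionData h2 hco
    have hrT : s⁻¹ * w ∉ torus b := fun h => hwt (((torus b).mul_mem_cancel_left (inv_mem hst)).1 h)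
    have hrb : s⁻¹ * w * b = b * (s⁻¹ * w) := by
      rw [mul_assoc, ← hbw, ← mul_assoc, ← mul_assoc,
        torus_comm hb1 (inv_mem hst) (mem_torus_self b)]
    obtain ⟨hrr, -, -⟩ := Db.hout _ hrb hrT
    rcases involution_in_torus Dc (tor r hr _ hsc) hrr with e | e
    · exact hwt (by rw [← inv_mul_eq_one.1 e]; exact hst)
    · rw [hc] at e
      exact hbH (by rw [← inv_injective (mul_right_cancel e)]; exact hsH)
  · push Not at hall
    obtain ⟨x, hx, hxT⟩ := hall
    have hxw := hcore x hx
    have hk4 := k_eq_four_of_core_outside D hk hwH hw1 hexp hx hxw hxT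
    obtain ⟨hxx, -, hxn⟩ := D.hout x hxw hxT
    have hxH := core_le_self hwH hx
    have hx1 : x ≠ 1 := fun e => hxT (e ▸ one_mem _)
    -- the four elements of `H` commuting with `w`
    have four : ∀ u ∈ H, u * w = w * u → u = 1 ∨ u = w ∨ u = x ∨ u = w * x := by
      intro u huH huw
      by_cases huT : u ∈ torus w
      · rcases involution_in_torus D huT (hexp u huH huw) with e | e <;> simp [e]
      · obtain ⟨-, -, hun⟩ := D.hout u huw huT
        have ht : u * x ∈ torus w := by
          have := Subgroup.mul_mem _ hun (inv_mem hxn)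
          rwa [show u * D.n * (x * D.n)⁻¹ = u * x⁻¹ by group,
            inv_eq_of_mul_eq_one_right hxx] at this
        have htc : u * x * w = w * (u * x) := by rw [mul_assoc, hxw, ← mul_assoc, huw, mul_assoc]
        rcases involution_in_torus D ht (hexp _ (H.mul_mem huH hxH) htc) with e | e
        · right; right; left
          exact (mul_eq_one_iff_eq_inv.1 e).trans (inv_eq_of_mul_eq_one_right hxx)
        · right; right; right
          rw [← e, mul_assoc, hxx, mul_one]
    have key : ∀ {y : PSLtwo F}, y * w = w * y → y ∉ torus w → y ∉ H → orderOf y = 2 →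
        w ∉ core H y := fun {y} hy hyT hyH hyo hmem => by
      obtain ⟨p, hp⟩ := hconj hyo
      have hm := transfer p hp w hmem
      refine not_conj_kleins D hodd hk4 hw hxw hxT hy hyT
        ⟨fun e => hyH (e ▸ hxH), fun e => hyH (e ▸ H.mul_mem hwH hxH)⟩ hp ?_
      have hne1 : p⁻¹ * w * p ≠ 1 := fun e => hw1 (by
        have := congrArg (fun v => p * v * p⁻¹) e
        simpa [mul_assoc] using this)
      have hne2 : p⁻¹ * w * p ≠ w := fun e => hyT (by
        rw [mul_left_cancel (mul_right_cancel (hp.trans e.symm))]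
        exact mem_torus_self w)
      rcases four _ (core_le_self hwH hm) (hcore _ hm) with e | e | e | e
      · exact absurd e hne1
      · exact absurd e hne2
      · exact Or.inl e
      · exact Or.inr e
    have sq1 : ∀ {z : PSLtwo F} (p : PSLtwo F), p⁻¹ * z * p = w → ∀ u ∈ core H z, u * u = 1 :=
      fun {z} p hp u hu => by
        have h := transfer p hp u hu
        have := congrArg (fun v => p * v * p⁻¹) (hexp _ (core_le_self hwH h) (hcore _ h))
        simpa [mul_assoc] using this
    have hss := sq1 p hp s hsb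
    have hrr := sq1 r hr _ hsc
    have hsinv : s⁻¹ = s := inv_eq_of_mul_eq_one_right hss
    rw [hsinv] at hrr hsc
    have hsw : s * w = w * s := by
      calc s * w = (s * w)⁻¹ := (inv_eq_of_mul_eq_one_right hrr).symm
        _ = w * s := by rw [mul_inv_rev, hsinv, inv_eq_of_mul_eq_one_right hww]
    have hsb' := comm_of p hp s hsb
    have xb : x * b ≠ b * x := fun h => by
      have hx' := D.hout x hxw hxT
      have hb' := D.hout b hbw hbT
      have ht : x * b ∈ torus w := by
        have := Subgroup.mul_mem _ hx'.2.2 (inv_mem hb'.2.2)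
        rwa [show x * D.n * (b * D.n)⁻¹ = x * b⁻¹ by group, hbinv] at this
      have hsq : x * b * (x * b) = 1 := by
        rw [show x * b * (x * b) = x * b * (b * x) by rw [h], mul_assoc, ← mul_assoc b, hbb, one_mul,
          hxx]
      rcases involution_in_torus D ht hsq with e | e
      · exact hbH (by
          rw [mul_eq_one_iff_inv_eq.1 e |>.symm]; exact H.inv_mem hxH)
      · exact hbH ((H.mul_mem_cancel_left hxH).1 (e ▸ hwH))
    rcases four s hsH hsw with e | e | e | e
    · rw [e, one_mul] at hsc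
      exact key hcw hcT hcH hco hsc
    · exact key hbw hbT hbH hbo (e ▸ hsb)
    · exact xb (e ▸ hsb')
    · rw [e, mul_assoc, ← mul_assoc b w x, hbw, mul_assoc] at hsb'
      exact xb (mul_left_cancel hsb')

end

/-- In a small group the core of an involution commutes with it. -/
theorem core_comm_of_small (hodd : Odd (Fintype.card F)) {w : PSLtwo F} (D : InvolutionData w)
    (hk : 6 ≤ D.k) {H : Subgroup (PSLtwo F)} (hwH : w ∈ H) (hw : orderOf w = 2)
    (hexp : ∀ x ∈ H, x * w = w * x → x * x = 1)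
    (hcard : Nat.card H = 12 ∨ Nat.card H = 24 ∨ Nat.card H = 60)
    (hsimple : Nat.card H = 60 → IsSimpleGroup H) : ∀ x ∈ core H w, x * w = w * x := by
  classical
  have h2 : (2 : F) ≠ 0 := two_ne_zero_iff_odd.2 hodd
  have hw1 : w ≠ 1 := fun e => by rw [e, orderOf_one] at hw; omega
  have hww := sq_of_orderOf_two hw
  set M := core H w with hM
  -- only `1` and `w` centralise `w` in the core
  have two : ∀ x ∈ M, x * w = w * x → x = 1 ∨ x = w := fun x hx hxw => by
    by_cases hxT : x ∈ torus w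
    · exact involution_in_torus D hxT (hexp x (core_le_self hwH hx) hxw)
    · exact absurd (k_eq_four_of_core_outside D (by omega) hwH hw1 hexp hx hxw hxT) (by omega)
  intro m hm
  by_contra hmw
  let W : M := ⟨w, self_mem_core H w⟩
  have hWW : W * W = 1 := Subtype.ext hww
  let X : Finset M := Finset.univ.filter fun y => IsConj W y
  have hWX : W ∈ X := Finset.mem_filter.2 ⟨Finset.mem_univ _, IsConj.refl W⟩
  have hy0 : m * w * m⁻¹ ≠ w := fun e => hmw (mul_inv_eq_iff_eq_mul.1 e)
  have hy0c : m * w * m⁻¹ * w ≠ w * (m * w * m⁻¹) := fun e => by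
    rcases two _ (mul_mem (mul_mem hm (self_mem_core H w)) (inv_mem hm)) e with h | h
    · exact hw1 (conj_eq_one_iff.1 h)
    · exact hy0 h
  -- `k` conjugates besides `w`
  have hgc : ∀ i : ℕ, D.g ^ i * w = w * D.g ^ i := fun i =>
    (Commute.pow_left (g_commute D hw1) i).eq
  have horbit : ∀ i : ℕ, D.g ^ i * (m * w * m⁻¹) * (D.g ^ i)⁻¹ ∈ M := fun i =>
    conj_mem_core (hgc i) (mul_mem (mul_mem hm (self_mem_core H w)) (inv_mem hm))
  let f : Fin D.k → M := fun i => ⟨_, horbit i⟩
  have hfX : ∀ i, f i ∈ X.erase W := fun i => by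
    refine Finset.mem_erase.2 ⟨fun e => hy0 ?_, Finset.mem_filter.2 ⟨Finset.mem_univ _,
      isConj_iff.2 ⟨⟨D.g ^ (i : ℕ) * m * (D.g ^ (i : ℕ))⁻¹, conj_mem_core (hgc i) hm⟩, Subtype.ext ?_⟩⟩⟩
    · have e' : D.g ^ (i : ℕ) * (m * w * m⁻¹) * (D.g ^ (i : ℕ))⁻¹ = w := congrArg Subtype.val e
      rw [mul_inv_eq_iff_eq_mul, ← hgc] at e'
      exact mul_left_cancel e'
    · show D.g ^ (i : ℕ) * m * (D.g ^ (i : ℕ))⁻¹ * w * (D.g ^ (i : ℕ) * m * (D.g ^ (i : ℕ))⁻¹)⁻¹ =
        D.g ^ (i : ℕ) * (m * w * m⁻¹) * (D.g ^ (i : ℕ))⁻¹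
      have : (D.g ^ (i : ℕ))⁻¹ * w = w * (D.g ^ (i : ℕ))⁻¹ := by
        rw [inv_mul_eq_iff_eq_mul, ← mul_assoc, hgc, mul_inv_cancel_right]
      rw [mul_assoc (D.g ^ (i : ℕ) * m), this]
      group
  have hfinj : Function.Injective f := fun i j e => by
    by_contra hij
    have e' : D.g ^ (i : ℕ) * (m * w * m⁻¹) * (D.g ^ (i : ℕ))⁻¹ =
        D.g ^ (j : ℕ) * (m * w * m⁻¹) * (D.g ^ (j : ℕ))⁻¹ := congrArg Subtype.val e
    set y := m * w * m⁻¹ with hy
    set t := (D.g ^ (j : ℕ))⁻¹ * D.g ^ (i : ℕ) with ht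
    have htT : t ∈ torus w :=
      mul_mem (inv_mem (pow_mem (g_mem_torus D) _)) (pow_mem (g_mem_torus D) _)
    have ht1 : t ≠ 1 := fun h => hij (Fin.ext (pow_injOn_Iio_orderOf
      (by simp only [Set.mem_Iio, D.hg]; exact i.2) (by simp only [Set.mem_Iio, D.hg]; exact j.2)
      (inv_mul_eq_one.1 h).symm))
    have hty : t * y * t⁻¹ = y := by
      calc t * y * t⁻¹ = (D.g ^ (j : ℕ))⁻¹ * (D.g ^ (i : ℕ) * y * (D.g ^ (i : ℕ))⁻¹) * D.g ^ (j : ℕ) := by
            rw [ht]; group
        _ = y := by rw [e']; group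
    have hyt : y * t * y⁻¹ = t := by
      rw [mul_inv_eq_iff_eq_mul]; exact (mul_inv_eq_iff_eq_mul.1 hty).symm
    have htor := torus_eq_of_mem hw1 htT ht1
    have hywT : y * w * y⁻¹ ∈ torus w := by
      have := (conj_mem_torus_conj_iff (n := y) (x := t) (y := w)).2 (htor ▸ mem_torus_self w)
      rwa [hyt, htor] at this
    have hsq : y * w * y⁻¹ * (y * w * y⁻¹) = 1 := by
      rw [show y * w * y⁻¹ * (y * w * y⁻¹) = y * (w * w) * y⁻¹ by group, hww]; group
    rcases involution_in_torus D hywT hsq with h | h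
    · exact hw1 (conj_eq_one_iff.1 h)
    · exact hy0c (mul_inv_eq_iff_eq_mul.1 h)
  have hXk : D.k + 1 ≤ X.card := by
    have := Finset.card_le_card (show Finset.univ.image f ⊆ X.erase W from fun a ha => by
      obtain ⟨i, -, rfl⟩ := Finset.mem_image.1 ha; exact hfX i)
    rw [Finset.card_image_of_injective _ hfinj, Finset.card_univ, Fintype.card_fin,
      Finset.card_erase_of_mem hWX] at this
    have : 0 < X.card := Finset.card_pos.2 ⟨W, hWX⟩
    omega
  -- the class has odd size
  have hXodd : Odd X.card := by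
    have hsum : (∑ _y ∈ X.erase W, (1 : ZMod 2)) = 0 := by
      refine Finset.sum_involution (fun y _ => W * y * W⁻¹) (fun _ _ => by decide) ?_ ?_ ?_
      · intro y hy _ e
        have hy' := (Finset.mem_erase.1 hy).1
        rw [mul_inv_eq_iff_eq_mul] at e
        rcases two y y.2 (congrArg Subtype.val e).symm with h | h
        · have : y = 1 := Subtype.ext h
          have hc := (Finset.mem_filter.1 (Finset.mem_erase.1 hy).2).2
          rw [this] at hc
          exact hw1 (congrArg Subtype.val (isConj_one_left.1 hc))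
        · exact hy' (Subtype.ext h)
      · intro y hy
        obtain ⟨hy1, hy2⟩ := Finset.mem_erase.1 hy
        refine Finset.mem_erase.2 ⟨fun e => hy1 ?_, Finset.mem_filter.2 ⟨Finset.mem_univ _,
          (Finset.mem_filter.1 hy2).2.trans (isConj_iff.2 ⟨W, rfl⟩)⟩⟩
        rw [mul_inv_eq_iff_eq_mul] at e
        exact mul_left_cancel e
      · intro y _
        rw [inv_eq_of_mul_eq_one_right hWW,
          show W * (W * y * W) * W = W * W * y * (W * W) by simp only [mul_assoc], hWW, one_mul,
          mul_one]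
    rw [Finset.sum_const, nsmul_one, ZMod.natCast_eq_zero_iff_even,
      Finset.card_erase_of_mem hWX] at hsum
    have : 0 < X.card := Finset.card_pos.2 ⟨W, hWX⟩
    rw [Nat.odd_iff]
    rw [Nat.even_iff] at hsum
    omega
  -- the order of the core
  have hMcard : Nat.card M = X.card * 2 := by
    have h := card_conj_elements W
    rw [Nat.card_eq_fintype_card (α := {y : M // IsConj W y}), Fintype.card_subtype] at h
    rw [← h]
    congr 1
    have hC : (Subgroup.centralizer ({W} : Set M) : Set M) = {1, W} := by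
      ext y
      simp only [SetLike.mem_coe, Subgroup.mem_centralizer_singleton_iff, Set.mem_insert_iff,
        Set.mem_singleton_iff]
      constructor
      · intro hy
        rcases two y y.2 (congrArg Subtype.val hy) with h | h
        · exact Or.inl (Subtype.ext h)
        · exact Or.inr (Subtype.ext h)
      · rintro (rfl | rfl) <;> simp
    rw [← SetLike.coe_sort_coe, Nat.card_coe_set_eq, hC]
    exact Set.ncard_pair (fun e => hw1 (congrArg Subtype.val e).symm)
  have hle : M ≤ H := fun a ha => core_le_self hwH ha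
  have hdvd : X.card * 2 ∣ Nat.card H := hMcard ▸ Subgroup.card_dvd_of_le hle
  have hXle : X.card * 2 ≤ Nat.card H := Nat.le_of_dvd Nat.card_pos hdvd
  obtain ⟨j, hj⟩ := hXodd
  rcases hcard with h | h | h <;> rw [h] at hdvd hXle
  · omega
  · have : X.card ≤ 12 := by omega
    interval_cases (X.card) <;> omega
  · have h15 : X.card = 15 := by
      have : X.card ≤ 30 := by omega
      interval_cases (X.card) <;> omega
    have := hsimple h
    have hidx : (M.subgroupOf H).index = 2 := by
      have h1 := Subgroup.index_mul_card (M.subgroupOf H)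
      rw [Nat.card_congr (Subgroup.subgroupOfEquivOfLe hle).toEquiv, hMcard, h15, h] at h1
      omega
    rcases (Subgroup.normal_of_index_eq_two hidx).eq_bot_or_eq_top with e | e
    · rw [e, Subgroup.index_bot, h] at hidx; omega
    · rw [e, Subgroup.index_top] at hidx; omega

end Cfsg.Agent.Lib.PSLBinary
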