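import Cfsg.Agent.Lib.PSLBinary.Translations

/-!
# The field with nine elements, translations forming a line

For `q = 9` and a line of translations in `H` the cores of unipotent elements are of order three,
which contradicts binarity.
-/

set_option autoImplicit false

namespace Cfsg.Agent.Lib.PSLBinary

open Cfsg.Agent.Lib.SuzukiBinary Cfsg.Agent.Lib.SL2

variable {F : Type*} [Field F] [Fintype F]

/-- A line of translations over the field with nine elements prevents binarity. -/
theorem not_binR_nine (h9 : Fintype.card F = 9) {H : Subgroup (PSLtwo F)} (hH : H ≠ ⊤)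
    (h0 : transl H ≠ ⊥) (hU : transl H ≠ ⊤) : ¬ BinR H := by
  intro hb
  have : IsSimpleGroup (PSLtwo F) :=
    Matrix.ProjectiveSpecialLinearGroup.rank_two_simple (by simp [h9])
  have h3 : (3 : F) = 0 := by
    have h := FiniteField.cast_card_eq_zero F
    rw [h9] at h
    exact (mul_self_eq_zero (a := (3 : F))).1 (by push_cast at h; linear_combination h)
  have h20 : (2 : F) ≠ 0 := fun h => one_ne_zero (show (1 : F) = 0 by linear_combination h3 - h)
  obtain ⟨j, hj⟩ : IsSquare (-1 : F) := by
    rw [FiniteField.isSquare_neg_one_iff, h9]; norm_num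
  obtain ⟨t, ht, ht0⟩ : ∃ t ∈ transl H, t ≠ 0 := by
    by_contra hno
    push Not at hno
    exact h0 ((AddSubgroup.eq_bot_iff_forall _).2 hno)
  have hline : ∀ u ∈ transl H, u = 0 ∨ u = t ∨ u = -t := by
    have hle : AddSubgroup.zmultiples t ≤ transl H := AddSubgroup.zmultiples_le.2 ht
    have hord : addOrderOf t = 3 := by
      have : Fact (Nat.Prime 3) := ⟨Nat.prime_three⟩
      exact addOrderOf_eq_prime (by
        rw [nsmul_eq_mul]; push_cast; rw [h3, zero_mul]) ht0
    have hc : Nat.card (transl H) = 3 := by
      have hd := AddSubgroup.card_addSubgroup_dvd_card (transl H)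
      rw [Nat.card_eq_fintype_card (α := F), h9] at hd
      have h1 : 3 ≤ Nat.card (transl H) := by
        rw [← hord, ← Nat.card_zmultiples]
        exact Nat.card_le_card_of_injective _ (AddSubgroup.inclusion_injective hle)
      have h9' : Nat.card (transl H) ≠ 9 := fun e =>
        hU (AddSubgroup.eq_top_of_card_eq _ (by rw [e, Nat.card_eq_fintype_card, h9]))
      have := Nat.le_of_dvd (by norm_num) hd
      interval_cases hh : Nat.card (transl H) <;> omega
    have he : AddSubgroup.zmultiples t = transl H :=
      AddSubgroup.eq_of_le_of_card_ge hle (by rw [hc, Nat.card_zmultiples, hord])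
    intro u hu
    rw [← he, AddSubgroup.mem_zmultiples_iff] at hu
    obtain ⟨k, rfl⟩ := hu
    rw [← mod_addOrderOf_zsmul t k, hord]
    have h1 := Int.emod_nonneg k (b := 3) (by norm_num)
    have h2 := Int.emod_lt_of_pos k (b := 3) (by norm_num)
    push_cast
    interval_cases h : k % 3
    · simp
    · simp
    · right; right
      rw [zsmul_eq_mul]; push_cast
      linear_combination t * h3
  set a : PSLtwo F := proj (upper t) with ha
  have haH : a ∈ H := ht
  have ha1 : a ≠ 1 := fun e => by
    rw [ha, proj_eq_one_iff, mem_center_iff_entries] at e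
    exact ht0 (by simpa using e.1)
  -- the core of a translation consists of translations
  have hcore : ∀ z ∈ core H a, z = 1 ∨ z = a ∨ z = a⁻¹ := by
    intro z hz
    set N := core H a with hN
    have hNH : ∀ z ∈ N, z ∈ H := fun z hz => by simpa using hz 1 (by simpa using haH)
    have hconj : ∀ (v : F), ∀ z ∈ N, proj (upper v) * z * (proj (upper v))⁻¹ ∈ N := fun v z hz =>
      conj_mem_core (by rw [ha, ← map_mul, ← map_mul, upper_mul, upper_mul, add_comm]) hz
    have hnorm : ∀ v, proj (upper v) ∈ Subgroup.normalizer (N : Set (PSLtwo F)) := fun v => by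
      refine Subgroup.mem_normalizer_iff.2 fun x => ⟨hconj v x, fun hx => ?_⟩
      have := hconj (-v) _ hx
      rw [← upper_inv, map_inv] at this
      simpa [mul_assoc] using this
    obtain ⟨n, rfl⟩ := proj_surjective z
    have h10 : n 1 0 = 0 := by
      by_contra h10
      have hn : N.Normal := Subgroup.normalizer_eq_top_iff.1
        (eq_top_of_transl hnorm (Subgroup.le_normalizer hz) h10)
      rcases hn.eq_bot_or_eq_top with h | h
      · exact ha1 (Subgroup.mem_bot.1 (h ▸ self_mem_core H a))
      · exact hH (eq_top_iff.2 fun x _ => hNH x (h ▸ Subgroup.mem_top x))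
    have hd := det_entries n
    rw [h10, mul_zero, sub_zero] at hd
    have h00 : n 0 0 ^ 2 = 1 := by
      by_contra h00
      have hz' : n 0 0 ^ 2 - 1 ≠ 0 := sub_ne_zero.2 h00
      refine hU (eq_top_iff.2 fun u _ => hNH _ ?_)
      have hm := N.mul_mem hz (hconj (u / (n 0 0 ^ 2 - 1)) _ (N.inv_mem hz))
      rw [← map_inv, ← map_inv, ← map_mul, ← map_mul, ← map_mul] at hm
      convert hm using 2
      apply ext_entries <;>
        simp only [mul_00, mul_01, mul_10, mul_11, inv_00, inv_01, inv_10, inv_11, upper_00,
          upper_01, upper_10, upper_11, h10]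
      · linear_combination -hd
      · field_simp
        linear_combination (u * n 0 0 ^ 2 - u) * hd
      · ring
      · linear_combination -hd
    obtain ⟨u, hu⟩ : ∃ u : F, proj n = proj (upper u) := by
      rcases sq_eq_one_iff.1 h00 with h | h
      · refine ⟨n 0 1, proj_eq_proj_iff.2 (Or.inl (ext_entries ?_ ?_ ?_ ?_))⟩ <;> simp [h, h10]
        rw [h, one_mul] at hd
        exact hd.symm
      · refine ⟨-n 0 1, proj_eq_proj_iff.2 (Or.inr (ext_entries ?_ ?_ ?_ ?_))⟩ <;> simp [h, h10]
        rw [h] at hd
        linear_combination -hd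
    rcases hline u (mem_transl.2 (by rw [← hu]; exact hNH _ hz)) with rfl | rfl | rfl
    · left; rw [hu, upper_zero, map_one]
    · right; left; rw [hu, ha]
    · right; right; rw [hu, ha, ← map_inv, upper_inv]
  -- the standard opposite element
  let P : PSLtwo F := proj (weyl * diag (Units.mk0 (j / t) (div_ne_zero (fun e => by
    rw [e] at hj; simp at hj) ht0)))
  let b : F → PSLtwo F := fun x => proj (upper x * lower t⁻¹ * (upper x)⁻¹)
  have hbconj : ∀ x, (proj (upper x) * P)⁻¹ * b x * (proj (upper x) * P) = a := fun x => by
    simp only [b, P, ha, map_mul, map_inv]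
    have e : weyl * (diag (Units.mk0 (j / t) (div_ne_zero (fun e => by
        rw [e] at hj; simp at hj) ht0)) * upper t *
          (diag (Units.mk0 (j / t) (div_ne_zero (fun e => by rw [e] at hj; simp at hj) ht0)))⁻¹) *
        weyl⁻¹ = lower t⁻¹ := by
      rw [diag_conj_upper, weyl_conj_upper, Units.val_mk0]
      congr 1
      field_simp
      linear_combination hj
    rw [← e]
    simp only [map_mul, map_inv]
    group
  have hbcore : ∀ x, ∀ z ∈ core H (b x), z = 1 ∨ z = b x ∨ z = (b x)⁻¹ := fun x z hz => by
    have hz' : (proj (upper x) * P)⁻¹ * z * (proj (upper x) * P) ∈ core H a := by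
      intro g hg
      have := hz (proj (upper x) * P * g) (by
        rw [← hbconj x] at hg
        convert hg using 1
        group)
      convert this using 1
      group
    set p := proj (upper x) * P with hp
    have back : z = p * (p⁻¹ * z * p) * p⁻¹ := by group
    have eb : b x = p * a * p⁻¹ := by
      have h := hbconj x
      rw [← hp] at h
      rw [← h]; group
    rcases hcore _ hz' with e | e | e <;> rw [back, e, eb]
    · left; group
    · right; left; rfl
    · right; right; group
  -- one of them is outside `H`
  obtain ⟨x, hx⟩ : ∃ x, b x ∉ H := by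
    by_contra hno
    push Not at hno
    set M : Subgroup (PSLtwo F) := ⨅ v : F, H.map (MulAut.conj (proj (upper v))).toMonoidHom with hM
    have hMmem : ∀ z, z ∈ M ↔ ∀ v, (proj (upper v))⁻¹ * z * proj (upper v) ∈ H := fun z => by
      simp only [hM, Subgroup.mem_iInf]
      refine forall_congr' fun v => ⟨?_, fun h => ⟨_, h, by simp [MulAut.conj_apply, mul_assoc]⟩⟩
      rintro ⟨h, hh, rfl⟩
      simpa [MulAut.conj_apply, mul_assoc] using hh
    have hconj : ∀ (w : F), ∀ z ∈ M, proj (upper w) * z * (proj (upper w))⁻¹ ∈ M := fun w z hz => by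
      rw [hMmem] at hz ⊢
      intro v
      have := hz (v - w)
      rw [show proj (upper (v - w)) = (proj (upper w))⁻¹ * proj (upper v) by
        rw [← map_inv, ← map_mul, upper_inv, upper_mul, neg_add_eq_sub]] at this
      convert this using 1
      group
    have hnorm : ∀ v, proj (upper v) ∈ Subgroup.normalizer (M : Set (PSLtwo F)) := fun v => by
      refine Subgroup.mem_normalizer_iff.2 fun x => ⟨hconj v x, fun hx => ?_⟩
      have := hconj (-v) _ hx
      rw [← upper_inv, map_inv] at this
      simpa [mul_assoc] using this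
    have hl : proj (lower t⁻¹) ∈ M := (hMmem _).2 fun v => by
      have := hno (-v)
      simp only [b] at this
      rwa [← upper_inv, inv_inv, map_mul, map_mul, map_inv] at this
    have hn : M.Normal := Subgroup.normalizer_eq_top_iff.1
      (eq_top_of_transl hnorm (Subgroup.le_normalizer hl) (by simpa using inv_ne_zero ht0))
    rcases hn.eq_bot_or_eq_top with h | h
    · rw [h, Subgroup.mem_bot, proj_eq_one_iff, mem_center_iff_entries] at hl
      exact inv_ne_zero ht0 (by simpa using hl.2.1)
    · refine hH (eq_top_iff.2 fun z _ => ?_)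
      simpa [upper_zero] using (hMmem z).1 (h ▸ Subgroup.mem_top z) 0
  have hc : (b x)⁻¹ * a = b (x + t) := by
    simp only [b, ha, ← map_inv, ← map_mul]
    rw [proj_eq_proj_iff]
    right
    apply ext_entries <;>
      simp only [Matrix.SpecialLinearGroup.coe_neg, Matrix.neg_apply, mul_00, mul_01, mul_10,
        mul_11, inv_00, inv_01, inv_10, inv_11, upper_00, upper_01, upper_10, upper_11, lower_00,
        lower_01, lower_10, lower_11] <;> field_simp
    · linear_combination t * h3
    · linear_combination (-(t * x) : F) * h3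
    · ring
    · linear_combination (0 : F) * h3
  obtain ⟨s, hsH, hsb, hsc⟩ := Cfsg.Agent.Lib.PSLBinary.BinR.core_split hb haH
    ⟨_, by rw [hbconj x]; exact haH⟩ ⟨_, by rw [hc, hbconj (x + t)]; exact haH⟩
  have hs1 : s = 1 := by
    rcases hbcore x s hsb with e | e | e
    · exact e
    · exact absurd (e ▸ hsH) hx
    · exact absurd (by rw [e] at hsH; exact H.inv_mem_iff.1 hsH) hx
  rw [hs1, inv_one, one_mul, hc] at hsc
  rcases hbcore _ a hsc with e | e | e
  · exact ha1 e
  all_goals
    simp only [b, ha, ← map_inv] at e
    rcases proj_eq_proj_iff.1 e with e' | e'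
  all_goals
    have h10 := congrArg (fun g : SLtwo F => g 1 0) e'
    simp [mul_00, mul_01, mul_10, mul_11, inv_00, inv_01, inv_10, inv_11, ht0] at h10

end Cfsg.Agent.Lib.PSLBinary
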