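import Cfsg.Agent.Lib.SL2.SmallConj
import Cfsg.Agent.Lib.SL2.Dickson
import Cfsg.Agent.Lib.PSLBinary.Core

/-!
# The two small polyhedral groups in `PSL₂(7)`

A subgroup isomorphic to `A₄` or `S₄` is, up to conjugation, one of two explicit groups each; for
each of the four we exhibit three points without a common translating element.
-/

set_option autoImplicit false

namespace Cfsg.Agent.Lib.PSLBinary

open Cfsg.Agent.Lib.SuzukiBinary Cfsg.Agent.Lib.SL2

instance : Fact (Nat.Prime 7) := ⟨by norm_num⟩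

/-- The standard element of order three. -/
def seven3 : SLtwo (ZMod 7) := ofEntries 2 0 0 4 (by decide)

theorem seven3_00 : seven3 0 0 = 2 := rfl
theorem seven3_01 : seven3 0 1 = 0 := rfl
theorem seven3_10 : seven3 1 0 = 0 := rfl
theorem seven3_11 : seven3 1 1 = 4 := rfl

theorem seven3_pow (n : ℕ) : (seven3 ^ n) 0 0 = 2 ^ n ∧ (seven3 ^ n) 0 1 = 0 ∧
    (seven3 ^ n) 1 0 = 0 ∧ (seven3 ^ n) 1 1 = 4 ^ n := by
  induction n with
  | zero => simp
  | succ n ih =>
    obtain ⟨h1, h2, h3, h4⟩ := ih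
    rw [pow_succ]
    simp only [mul_00, mul_01, mul_10, mul_11, h1, h2, h3, h4, seven3_00, seven3_01, seven3_10,
      seven3_11, pow_succ, mul_zero, zero_mul, add_zero, zero_add, and_self]

/-- The two standard involutions. -/
def sevenW : Bool → SLtwo (ZMod 7)
  | true => ofEntries 3 1 4 4 (by decide)
  | false => ofEntries 3 3 6 4 (by decide)

/-- Twelve words in the two generators. -/
def twelve (y w : SLtwo (ZMod 7)) : List (SLtwo (ZMod 7)) :=
  [1, y, y * y, w, w * y, w * (y * y), y * w, y * w * y, y * w * (y * y), y * y * w, y * y * w * y,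
    y * y * w * (y * y)]

/-- Twenty four words. -/
def twentyFour (y w z : SLtwo (ZMod 7)) : List (SLtwo (ZMod 7)) :=
  twelve y w ++ (twelve y w).map (z * ·)

/-- Membership up to sign. -/
def memSign (L : List (SLtwo (ZMod 7))) (g : SLtwo (ZMod 7)) : Bool :=
  L.any fun h => decide (g = h ∨ g = -h)

/-- Three points, pairwise but not globally translatable. -/
def witness (L : List (SLtwo (ZMod 7))) (p q b c g1 g2 g3 : SLtwo (ZMod 7)) : Bool :=
  memSign L g1 && memSign L (b⁻¹ * g1 * p) && memSign L g2 && memSign L (c⁻¹ * g2 * q) &&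
    memSign L (b⁻¹ * g3 * p) && memSign L (c⁻¹ * g3 * q) &&
    L.all fun g => !(memSign L (b⁻¹ * g * p) && memSign L (c⁻¹ * g * q))

theorem memSign_iff (L : List (SLtwo (ZMod 7))) (g : SLtwo (ZMod 7)) :
    memSign L g = true ↔ ∃ h ∈ L, proj g = proj h := by
  simp only [memSign, List.any_eq_true, decide_eq_true_eq]
  refine exists_congr fun h => and_congr_right fun _ => ⟨fun e => ?_, fun e => ?_⟩
  · rcases e with rfl | rfl
    · rfl
    · exact proj_neg h
  · exact proj_eq_proj_iff.1 e.symm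

theorem not_binR_of_witness (L : List (SLtwo (ZMod 7))) (H : Subgroup (PSLtwo (ZMod 7)))
    (hL : ∀ h ∈ L, proj h ∈ H) (hdist : L.Pairwise fun a b => ¬(a = b ∨ a = -b))
    (hcard : Nat.card H = L.length) {p q b c g1 g2 g3 : SLtwo (ZMod 7)}
    (hw : witness L p q b c g1 g2 g3 = true) : ¬ BinR H := by
  classical
  intro hb
  have hmem : ∀ g, proj g ∈ H → memSign L g = true := by
    intro g hg
    rw [memSign_iff]
    by_contra hno
    push Not at hno
    let l : List (PSLtwo (ZMod 7)) := proj g :: L.map proj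
    have hnd : l.Nodup := by
      refine List.nodup_cons.2 ⟨fun h => ?_, ?_⟩
      · obtain ⟨h', hh', e⟩ := List.mem_map.1 h
        exact hno h' hh' e.symm
      · rw [List.nodup_iff_pairwise_ne, List.pairwise_map]
        exact hdist.imp fun {a b} hne e => hne (proj_eq_proj_iff.1 e.symm)
    have hsub : ∀ x ∈ l.toFinset, x ∈ (H : Set (PSLtwo (ZMod 7))).toFinite.toFinset := by
      intro x hx
      rw [List.mem_toFinset] at hx
      rw [Set.Finite.mem_toFinset]
      rcases List.mem_cons.1 hx with rfl | hx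
      · exact hg
      · obtain ⟨h', hh', rfl⟩ := List.mem_map.1 hx
        exact hL h' hh'
    have := Finset.card_le_card hsub
    rw [List.toFinset_card_of_nodup hnd, ← Set.ncard_eq_toFinset_card, ← Nat.card_coe_set_eq,
      show Nat.card (H : Set (PSLtwo (ZMod 7))) = L.length from hcard] at this
    simp [l] at this
  have hto : ∀ g, memSign L g = true → proj g ∈ H := fun g hg => by
    obtain ⟨h, hh, e⟩ := (memSign_iff L g).1 hg
    exact e ▸ hL h hh
  simp only [witness, Bool.and_eq_true, List.all_eq_true, Bool.not_eq_true'] at hw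
  obtain ⟨⟨⟨⟨⟨⟨a1, a2⟩, a3⟩, a4⟩, a5⟩, a6⟩, hall⟩ := hw
  have tr' : ∀ x g y : SLtwo (ZMod 7),
      (proj x)⁻¹ * proj g * proj y = proj (x⁻¹ * g * y) := fun x g y => by simp
  obtain ⟨g, e1, e2, e3⟩ := hb.three (proj p) (proj q) 1 (proj b) (proj c)
    ⟨proj g1, by simpa using hto _ a1, by rw [tr']; exact hto _ a2⟩
    ⟨proj g2, by simpa using hto _ a3, by rw [tr']; exact hto _ a4⟩
    ⟨proj g3, by rw [tr']; exact hto _ a5, by rw [tr']; exact hto _ a6⟩
  rw [inv_one, one_mul] at e1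
  obtain ⟨g', rfl⟩ := proj_surjective g
  obtain ⟨h, hh, e⟩ := (memSign_iff L g').1 (hmem g' e1)
  have k2 := hmem (b⁻¹ * h * p) (by rw [← tr', ← e]; exact e2)
  have k3 := hmem (c⁻¹ * h * q) (by rw [← tr', ← e]; exact e3)
  have := hall h hh
  simp [k2, k3] at this

theorem seven_standard (a b c : ZMod 7) (ha : 4 * (a * a) = 1) (hd : -(a * a) - b * c = 1) :
    ∃ i : Fin 3, ∃ s : Bool,
      (a = sevenW s 0 0 ∧ 4 ^ (i : ℕ) * b = sevenW s 0 1 ∧ 2 ^ (i : ℕ) * c = sevenW s 1 0 ∧
        -a = sevenW s 1 1) ∨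
      (-a = sevenW s 0 0 ∧ -(4 ^ (i : ℕ) * b) = sevenW s 0 1 ∧ -(2 ^ (i : ℕ) * c) = sevenW s 1 0 ∧
        a = sevenW s 1 1) := by
  revert a b c
  decide +kernel

theorem seven_weyl (u v : ZMod 7) (h : -(u * v) = 1) :
    ∃ i : Fin 3, (2 ^ (i : ℕ) * u = 1 ∧ 4 ^ (i : ℕ) * v = -1) ∨
      (2 ^ (i : ℕ) * u = -1 ∧ 4 ^ (i : ℕ) * v = 1) := by
  revert u v
  decide +kernel

theorem twelve_distinct (s : Bool) :
    (twelve seven3 (sevenW s)).Pairwise fun a b => ¬(a = b ∨ a = -b) := by
  cases s <;> decide +kernel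

theorem twentyFour_distinct (s : Bool) :
    (twentyFour seven3 (sevenW s) weyl).Pairwise fun a b => ¬(a = b ∨ a = -b) := by
  cases s <;> decide +kernel

/-- No subgroup of `PSL₂(7)` generated like `A₄` or `S₄` gives a binary action. -/
theorem not_binR_seven {H : Subgroup (PSLtwo (ZMod 7))} {y w : PSLtwo (ZMod 7)} (hy : y ∈ H)
    (hw : w ∈ H) (hy3 : y ^ 3 = 1) (hy1 : y ≠ 1) (hw2 : w * w = 1) (hw1 : w ≠ 1)
    (hyw : (y * w) ^ 3 = 1) (hyw1 : y * w ≠ 1)
    (hcase : Nat.card H = 12 ∨ (Nat.card H = 24 ∧ ∃ z ∈ H, z * y * z⁻¹ = y⁻¹)) :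
    ¬ BinR H := by
  intro hb
  -- move `y` to the standard element
  obtain ⟨Y, rfl⟩ := proj_surjective y
  have hY := (tr_of_pow hy1).2.1 hy3
  obtain ⟨Y', hY', htY⟩ : ∃ Y', proj Y' = proj Y ∧ tr Y' = 6 := by
    have : ∀ t : ZMod 7, t * t = 1 → t = 6 ∨ -t = 6 := by decide
    rcases this _ hY with h | h
    · exact ⟨Y, rfl, h⟩
    · exact ⟨-Y, proj_neg Y, by rw [tr_neg, h]⟩
  rw [← hY'] at hy hy1 hy3 hyw hyw1 hcase
  have hsemi : IsElliptic Y' ∨ IsSplit Y' :=
    Or.inr ⟨2, by rw [htY]; decide, by decide⟩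
  obtain ⟨k, hk⟩ := isConj_iff.1 (isConj_of_tr_eq (h := seven3) hsemi (by rw [htY]; decide +kernel))
  let κ : MulAut (PSLtwo (ZMod 7)) := MulAut.conj (proj k)
  have hb' := hb.map κ
  set K := H.map κ.toMonoidHom with hK
  have hκY : κ (proj Y') = proj seven3 := by
    simp only [κ, MulAut.conj_apply, ← map_inv, ← map_mul, hk]
  have hyK : proj seven3 ∈ K := hκY ▸ Subgroup.mem_map_of_mem _ hy
  have hwK : κ w ∈ K := Subgroup.mem_map_of_mem _ hw
  have hκw2 : κ w * κ w = 1 := by rw [← map_mul, hw2, map_one]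
  have hκw1 : κ w ≠ 1 := fun e => hw1 (κ.injective (by rw [e, map_one]))
  obtain ⟨W, hW⟩ := proj_surjective (κ w)
  rw [← hW] at hwK hκw2 hκw1
  have hκyw : (proj seven3 * proj W) ^ 3 = 1 := by
    rw [hW, ← hκY, ← map_mul, ← map_pow, hyw, map_one]
  have hκyw1 : proj (seven3 * W) ≠ 1 := fun e => hyw1 (κ.injective (by
    rw [map_mul, hW, ← hκY, ← map_mul] at e
    rw [e, map_one]))
  have hWt := (tr_of_pow hκw1).1 hκw2
  have hYWt := (tr_of_pow hκyw1).2.1 (by rw [map_mul]; exact hκyw)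
  have h11 : W 1 1 = -W 0 0 := by
    simp only [tr] at hWt
    linear_combination hWt
  have ha : 4 * (W 0 0 * W 0 0) = 1 := by
    simp [tr, mul_00, mul_11, seven3, ofEntries_coe, h11] at hYWt
    linear_combination hYWt
  have hd := det_entries W
  rw [h11] at hd
  obtain ⟨i, s, hs⟩ := seven_standard (W 0 0) (W 0 1) (W 1 0) ha (by linear_combination hd)
  have hY0 : seven3 ^ (0 : ℕ) = (1 : SLtwo (ZMod 7)) := pow_zero _
  have hconj : seven3 ^ (i : ℕ) * W * (seven3 ^ (i : ℕ))⁻¹ =
      ofEntries (W 0 0) (4 ^ (i : ℕ) * W 0 1) (2 ^ (i : ℕ) * W 1 0) (-W 0 0) (by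
        have : (4 : ZMod 7) ^ (i : ℕ) * 2 ^ (i : ℕ) = 1 := by
          rw [← mul_pow, show (4 : ZMod 7) * 2 = 1 by decide, one_pow]
        linear_combination hd - W 0 1 * W 1 0 * this) := by
    obtain ⟨h1, h2, h3, h4⟩ := seven3_pow i
    have h42 : (2 : ZMod 7) ^ (i : ℕ) * 4 ^ (i : ℕ) = 1 := by
      rw [← mul_pow, show (2 : ZMod 7) * 4 = 1 by decide, one_pow]
    have h22 : (2 : ZMod 7) ^ (i : ℕ) * 2 ^ (i : ℕ) = 4 ^ (i : ℕ) := by
      rw [← mul_pow]; norm_num
    have h44 : (4 : ZMod 7) ^ (i : ℕ) * 4 ^ (i : ℕ) = 2 ^ (i : ℕ) := by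
      rw [← mul_pow, show (4 : ZMod 7) * 4 = 2 by decide]
    apply ext_entries <;>
      simp [mul_00, mul_01, mul_10, mul_11, inv_00, inv_01, inv_10, inv_11, h1, h2, h3, h4,
        ofEntries_coe, h11]
    · linear_combination W 0 0 * h42
    · linear_combination W 0 1 * h22
    · linear_combination W 1 0 * h44
    · linear_combination W 0 0 * h42
  have hwsK : proj (sevenW s) ∈ K := by
    have h := K.mul_mem (K.mul_mem (pow_mem hyK i) hwK) (K.inv_mem (pow_mem hyK i))
    rw [← map_pow, ← map_inv, ← map_mul, ← map_mul, hconj] at h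
    rcases hs with ⟨e0, e1, e2, e3⟩ | ⟨e0, e1, e2, e3⟩
    · rwa [show sevenW s = ofEntries (W 0 0) (4 ^ (i : ℕ) * W 0 1) (2 ^ (i : ℕ) * W 1 0)
        (-W 0 0) _ from ext_entries (by simp [ofEntries_coe, e0]) (by simp [ofEntries_coe, e1])
          (by simp [ofEntries_coe, e2]) (by simp [ofEntries_coe, e3])]
    · rw [← proj_neg] at h
      convert h using 2
      apply ext_entries <;> simp [ofEntries_coe, ← e0, ← e1, ← e2, ← e3]
  have hcardK : Nat.card K = Nat.card H :=
    Subgroup.card_map_of_injective (MulEquiv.injective _)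
  have h12 : ∀ h ∈ twelve seven3 (sevenW s), proj h ∈ K := by
    intro h hh
    simp only [twelve, List.mem_cons, List.not_mem_nil, or_false] at hh
    rcases hh with rfl | rfl | rfl | rfl | rfl | rfl | rfl | rfl | rfl | rfl | rfl | rfl <;>
      (try simp only [map_mul, map_one]) <;>
      first | exact one_mem _ | (repeat' apply mul_mem) <;> assumption
  rcases hcase with hc | ⟨hc, z, hz, hzy⟩
  · have hlen : Nat.card K = (twelve seven3 (sevenW s)).length := by rw [hcardK, hc]; rfl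
    cases s
    · exact not_binR_of_witness _ K h12 (twelve_distinct false) hlen
        (p := ofEntries 0 1 6 1 (by decide)) (q := ofEntries 0 1 6 2 (by decide))
        (b := ofEntries 0 1 6 1 (by decide)) (c := ofEntries 0 1 6 3 (by decide)) (g1 := 1)
        (g2 := ofEntries 2 1 4 6 (by decide)) (g3 := ofEntries 2 0 5 4 (by decide))
        (by decide +kernel) hb'
    · exact not_binR_of_witness _ K h12 (twelve_distinct true) hlen
        (p := ofEntries 0 1 6 1 (by decide)) (q := ofEntries 0 1 6 2 (by decide))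
        (b := ofEntries 0 1 6 1 (by decide)) (c := ofEntries 0 1 6 3 (by decide)) (g1 := 1)
        (g2 := ofEntries 3 1 4 4 (by decide)) (g3 := ofEntries 2 0 5 4 (by decide))
        (by decide +kernel) hb'
  · -- the element inverting the standard one
    obtain ⟨Z, hZ⟩ := proj_surjective (κ z)
    have hzK : proj Z ∈ K := hZ ▸ Subgroup.mem_map_of_mem _ hz
    have hzy' : proj (Z * seven3) = proj (seven3⁻¹ * Z) := by
      rw [map_mul, map_mul, map_inv, hZ, ← hκY, ← map_inv, ← map_mul, ← map_mul, ← hzy]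
      congr 1
      group
    have hdiag : Z 0 0 = 0 ∧ Z 1 1 = 0 := by
      have k1 : ∀ z : ZMod 7, (2 * z = 4 * z ∨ 2 * z = -(4 * z)) → z = 0 := by decide
      have k2 : ∀ z : ZMod 7, (4 * z = 2 * z ∨ 4 * z = -(2 * z)) → z = 0 := by decide
      rcases proj_eq_proj_iff.1 hzy' with e | e <;>
      · have e00 := congrArg (fun g : SLtwo (ZMod 7) => g 0 0) e
        have e11 := congrArg (fun g : SLtwo (ZMod 7) => g 1 1) e
        simp only [Matrix.SpecialLinearGroup.coe_neg, Matrix.neg_apply, mul_00, mul_11, inv_00, inv_01, inv_10, inv_11, seven3_00, seven3_01, seven3_10, seven3_11] at e00 e11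
        refine ⟨k2 _ ?_, k1 _ ?_⟩
        · first | exact Or.inl (by linear_combination e00) | exact Or.inr (by linear_combination e00)
        · first | exact Or.inl (by linear_combination e11) | exact Or.inr (by linear_combination e11)
    have hdZ := det_entries Z
    rw [hdiag.1, hdiag.2] at hdZ
    obtain ⟨j, hj⟩ := seven_weyl (Z 0 1) (Z 1 0) (by linear_combination hdZ)
    have hweyl : proj (weyl : SLtwo (ZMod 7)) ∈ K := by
      have h := K.mul_mem (pow_mem hyK j) hzK
      rw [← map_pow, ← map_mul] at h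
      obtain ⟨h1, h2, h3, h4⟩ := seven3_pow j
      rcases hj with ⟨e1, e2⟩ | ⟨e1, e2⟩
      · convert h using 2
        apply ext_entries <;>
          simp only [Matrix.SpecialLinearGroup.coe_neg, Matrix.neg_apply, mul_00, mul_01, mul_10, mul_11,
            h1, h2, h3, h4, hdiag, e1, e2, weyl_00, weyl_01, weyl_10, weyl_11, mul_zero, zero_mul,
            add_zero, zero_add, neg_zero, neg_neg]
      · rw [← proj_neg] at h
        convert h using 2
        apply ext_entries <;>
          simp only [Matrix.SpecialLinearGroup.coe_neg, Matrix.neg_apply, mul_00, mul_01, mul_10, mul_11,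
            h1, h2, h3, h4, hdiag, e1, e2, weyl_00, weyl_01, weyl_10, weyl_11, mul_zero, zero_mul,
            add_zero, zero_add, neg_zero, neg_neg]
    have h24 : ∀ h ∈ twentyFour seven3 (sevenW s) weyl, proj h ∈ K := by
      intro h hh
      rcases List.mem_append.1 hh with hh | hh
      · exact h12 h hh
      · obtain ⟨h', hh', rfl⟩ := List.mem_map.1 hh
        rw [map_mul]
        exact K.mul_mem hweyl (h12 h' hh')
    have hlen : Nat.card K = (twentyFour seven3 (sevenW s) weyl).length := by rw [hcardK, hc]; rfl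
    cases s
    · exact not_binR_of_witness _ K h24 (twentyFour_distinct false) hlen
        (p := ofEntries 0 1 6 1 (by decide)) (q := ofEntries 0 1 6 2 (by decide))
        (b := ofEntries 0 1 6 1 (by decide)) (c := ofEntries 0 1 6 3 (by decide))
        (g1 := ofEntries 0 3 2 0 (by decide))
        (g2 := ofEntries 2 1 4 6 (by decide)) (g3 := ofEntries 1 3 5 2 (by decide))
        (by decide +kernel) hb'
    · exact not_binR_of_witness _ K h24 (twentyFour_distinct true) hlen
        (p := ofEntries 0 1 6 1 (by decide)) (q := ofEntries 0 1 6 2 (by decide))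
        (b := ofEntries 0 1 6 1 (by decide)) (c := ofEntries 0 1 6 5 (by decide))
        (g1 := ofEntries 0 2 3 0 (by decide))
        (g2 := ofEntries 2 2 1 5 (by decide)) (g3 := ofEntries 1 6 2 6 (by decide))
        (by decide +kernel) hb'

/-- `A₄` and `S₄` have generators of the required form. -/
theorem exists_gens_small {P : Type*} [Group P] {H : Subgroup P}
    (h : Nonempty (H ≃* alternatingGroup (Fin 4)) ∨ Nonempty (H ≃* Equiv.Perm (Fin 4))) :
    ∃ y ∈ H, ∃ w ∈ H, y ^ 3 = 1 ∧ y ≠ 1 ∧ w * w = 1 ∧ w ≠ 1 ∧ (y * w) ^ 3 = 1 ∧ y * w ≠ 1 ∧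
      (Nat.card H = 12 ∨ (Nat.card H = 24 ∧ ∃ z ∈ H, z * y * z⁻¹ = y⁻¹)) := by
  rcases h with he | he <;> obtain ⟨e⟩ := he
  · have key : ∃ y w : alternatingGroup (Fin 4), y ^ 3 = 1 ∧ y ≠ 1 ∧ w * w = 1 ∧ w ≠ 1 ∧
        (y * w) ^ 3 = 1 ∧ y * w ≠ 1 := by decide +kernel
    obtain ⟨y, w, k1, k2, k3, k4, k5, k6⟩ := key
    have t : ∀ {a : alternatingGroup (Fin 4)}, (e.symm a : P) = 1 → a = 1 := fun {a} h =>
      e.symm.injective (by rw [map_one]; exact Subtype.ext h)
    refine ⟨e.symm y, (e.symm y).2, e.symm w, (e.symm w).2, ?_, fun h => k2 (t h), ?_,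
      fun h => k4 (t h), ?_, fun h => k6 (t (by rw [map_mul]; exact h)), Or.inl ?_⟩
    · rw [← Subgroup.coe_pow, ← map_pow, k1, map_one, Subgroup.coe_one]
    · rw [← Subgroup.coe_mul, ← map_mul, k3, map_one, Subgroup.coe_one]
    · rw [← Subgroup.coe_mul, ← Subgroup.coe_pow, ← map_mul, ← map_pow, k5, map_one, Subgroup.coe_one]
    · rw [Nat.card_congr e.toEquiv, Nat.card_eq_fintype_card]
      decide +kernel
  · have key : ∃ y w z : Equiv.Perm (Fin 4), y ^ 3 = 1 ∧ y ≠ 1 ∧ w * w = 1 ∧ w ≠ 1 ∧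
        (y * w) ^ 3 = 1 ∧ y * w ≠ 1 ∧ z * y * z⁻¹ = y⁻¹ := by
      refine ⟨Equiv.swap 0 1 * Equiv.swap 1 2, Equiv.swap 0 1 * Equiv.swap 2 3, Equiv.swap 0 1, ?_⟩
      decide +kernel
    obtain ⟨y, w, z, k1, k2, k3, k4, k5, k6, k7⟩ := key
    have t : ∀ {a : Equiv.Perm (Fin 4)}, (e.symm a : P) = 1 → a = 1 := fun {a} h =>
      e.symm.injective (by rw [map_one]; exact Subtype.ext h)
    refine ⟨e.symm y, (e.symm y).2, e.symm w, (e.symm w).2, ?_, fun h => k2 (t h), ?_,
      fun h => k4 (t h), ?_, fun h => k6 (t (by rw [map_mul]; exact h)), Or.inr ⟨?_, e.symm z,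
        (e.symm z).2, ?_⟩⟩
    · rw [← Subgroup.coe_pow, ← map_pow, k1, map_one, Subgroup.coe_one]
    · rw [← Subgroup.coe_mul, ← map_mul, k3, map_one, Subgroup.coe_one]
    · rw [← Subgroup.coe_mul, ← Subgroup.coe_pow, ← map_mul, ← map_pow, k5, map_one, Subgroup.coe_one]
    · rw [Nat.card_congr e.toEquiv, Nat.card_eq_fintype_card]
      decide +kernel
    · rw [← Subgroup.coe_inv, ← Subgroup.coe_inv, ← Subgroup.coe_mul, ← Subgroup.coe_mul,
        ← map_inv, ← map_mul, ← map_mul, k7, map_inv]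

end Cfsg.Agent.Lib.PSLBinary
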