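import Cfsg.Agent.Lib.SL2.Dickson
import Cfsg.Agent.Lib.PSLBinary.Involution

/-!
# Dihedral and polyhedral stabilisers in odd characteristic
-/

set_option autoImplicit false

namespace Cfsg.Agent.Lib.PSLBinary

open Cfsg.Agent.Lib.SuzukiBinary Cfsg.Agent.Lib.SL2

variable {F : Type*} [Field F] [Fintype F]

/-- Dihedral subgroups. -/
theorem not_binR_dihedral (hodd : Odd (Fintype.card F)) (hq : 7 ≤ Fintype.card F)
    {H A : Subgroup (PSLtwo F)} (hA : IsSemiMember H A)
    (hinv : ∀ n ∈ H, n ∉ A → n * n = 1 ∧ ∀ y ∈ A, n * y * n⁻¹ = y⁻¹)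
    {w : PSLtwo F} (hwH : w ∈ H) (hwA : w ∉ A) : ¬ BinR H := by
  have h2 : (2 : F) ≠ 0 := two_ne_zero_iff_odd.2 hodd
  obtain ⟨hww, hwinv⟩ := hinv w hwH hwA
  have hw1 : w ≠ 1 := fun e => hwA (e ▸ A.one_mem)
  have hwo : orderOf w = 2 := orderOf_eq_prime (by rw [sq]; exact hww) hw1
  obtain ⟨D⟩ := exists_involutionData h2 hwo
  have hk : 4 ≤ D.k := by
    have := D.hkq
    obtain ⟨m, hm⟩ := D.heven
    omega
  have hexp : ∀ x ∈ H, x * w = w * x → x * x = 1 := fun x hx hxw => by
    by_cases hxA : x ∈ A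
    · have e := hwinv x hxA
      rw [← hxw, mul_inv_cancel_right] at e
      exact mul_eq_one_iff_eq_inv.2 e
    · exact (hinv x hx hxA).1
  refine not_binR_of_core_comm D hodd hk hwH hwo hexp fun m hm => ?_
  have hgw := g_commute D hw1
  have hsq : ∀ m ∈ core H w, m * m = 1 := by
    intro m hm
    by_contra hmm
    have hmA : m ∈ A := by_contra fun h => hmm (hinv m (core_le_self hwH hm) h).1
    have hm1 : m ≠ 1 := fun e => hmm (by rw [e, one_mul])
    have hg : D.g * m * D.g⁻¹ ∈ core H w := conj_mem_core hgw hm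
    have hgA : D.g * m * D.g⁻¹ ∈ A := by_contra fun h => hmm (by
      have := (hinv _ (core_le_self hwH hg) h).1
      have := congrArg (fun v => D.g⁻¹ * v * D.g) this
      simpa [mul_assoc] using this)
    have hAm := hA.1.eq_of_mem hmA hm1
    have hgT : D.g * m * D.g⁻¹ ∈ torus m := by rw [hAm] at hgA; exact (Subgroup.mem_inf.1 hgA).1
    rcases normalizer_torus_semi (hA.2 m hmA hm1) hgT with h | ⟨-, h, -⟩
    · apply hwA
      rw [hAm]
      refine Subgroup.mem_inf.2 ⟨?_, hwH⟩
      rw [← D.hhalf]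
      exact pow_mem h _
    · exact g_sq_ne_one D (by omega) h
  have hw' := self_mem_core H w
  calc m * w = (m * w)⁻¹ := (inv_eq_of_mul_eq_one_right (hsq _ (mul_mem hm hw'))).symm
    _ = w * m := by
      rw [mul_inv_rev, inv_eq_of_mul_eq_one_right hww,
        inv_eq_of_mul_eq_one_right (hsq m hm)]

/-- A polyhedral group has an involution with elementary abelian centraliser. -/
theorem exists_small_involution {P : Type*} [Group P] {H : Subgroup P}
    (h : Nonempty (H ≃* alternatingGroup (Fin 4)) ∨ Nonempty (H ≃* Equiv.Perm (Fin 4)) ∨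
      Nonempty (H ≃* alternatingGroup (Fin 5))) :
    ∃ w ∈ H, w * w = 1 ∧ w ≠ 1 ∧ ∀ x ∈ H, x * w = w * x → x * x = 1 := by
  have gen : ∀ {L : Type} [Group L], (H ≃* L) →
      (∃ w : L, w * w = 1 ∧ w ≠ 1 ∧ ∀ x : L, x * w = w * x → x * x = 1) →
      ∃ w ∈ H, w * w = 1 ∧ w ≠ 1 ∧ ∀ x ∈ H, x * w = w * x → x * x = 1 := by
    intro L _ e ⟨w, k1, k2, k3⟩
    refine ⟨e.symm w, (e.symm w).2, ?_, fun h => k2 ?_, fun x hx hxw => ?_⟩
    · rw [← Subgroup.coe_mul, ← map_mul, k1, map_one, Subgroup.coe_one]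
    · exact e.symm.injective (by rw [map_one]; exact Subtype.ext h)
    · have h1 : (⟨x, hx⟩ : H) * e.symm w = e.symm w * ⟨x, hx⟩ := Subtype.ext hxw
      have h2 := congrArg e h1
      simp only [map_mul, MulEquiv.apply_symm_apply] at h2
      have h3 := congrArg e.symm (k3 _ h2)
      simp only [map_mul, MulEquiv.symm_apply_apply, map_one] at h3
      exact congrArg Subtype.val h3
  rcases h with h | h | h <;> obtain ⟨e⟩ := h
  · exact gen e (by decide +kernel)
  · exact gen e ⟨Equiv.swap 0 1, by decide +kernel⟩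
  · exact gen e ⟨⟨Equiv.swap 0 1 * Equiv.swap 2 3, Equiv.Perm.mem_alternatingGroup.2 (by decide +kernel)⟩,
      by decide +kernel⟩

/-- Polyhedral subgroups for `q ≥ 11`. -/
theorem not_binR_polyhedral (hodd : Odd (Fintype.card F)) (hq : 11 ≤ Fintype.card F)
    {H : Subgroup (PSLtwo F)}
    (h : Nonempty (H ≃* alternatingGroup (Fin 4)) ∨ Nonempty (H ≃* Equiv.Perm (Fin 4)) ∨
      Nonempty (H ≃* alternatingGroup (Fin 5))) : ¬ BinR H := by
  have h2 : (2 : F) ≠ 0 := two_ne_zero_iff_odd.2 hodd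
  obtain ⟨w, hwH, hww, hw1, hexp⟩ := exists_small_involution h
  have hwo : orderOf w = 2 := orderOf_eq_prime (by rw [sq]; exact hww) hw1
  obtain ⟨D⟩ := exists_involutionData h2 hwo
  have hk : 6 ≤ D.k := by
    have := D.hkq
    obtain ⟨m, hm⟩ := D.heven
    omega
  have h12 : Nat.card (alternatingGroup (Fin 4)) = 12 := by
    rw [Nat.card_eq_fintype_card]; decide +kernel
  have h24 : Nat.card (Equiv.Perm (Fin 4)) = 24 := by
    rw [Nat.card_eq_fintype_card]; decide +kernel
  have h60 : Nat.card (alternatingGroup (Fin 5)) = 60 := by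
    rw [Nat.card_eq_fintype_card]; decide +kernel
  refine not_binR_of_core_comm D hodd (by omega) hwH hwo hexp
    (core_comm_of_small hodd D hk hwH hwo hexp ?_ fun hc => ?_)
  · rcases h with h | h | h <;> obtain ⟨e⟩ := h <;> rw [Nat.card_congr e.toEquiv] <;> omega
  · rcases h with h | h | h <;> obtain ⟨e⟩ := h <;> rw [Nat.card_congr e.toEquiv] at hc
    · omega
    · omega
    · have := alternatingGroup.isSimpleGroup_five
      have : Nontrivial H := e.toEquiv.nontrivial
      exact IsSimpleGroup.isSimpleGroup_of_surjective e.symm.toMonoidHom e.symm.surjective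

end Cfsg.Agent.Lib.PSLBinary
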