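import Cfsg.Agent.Lib.PSLBinary.Borel
import Cfsg.Agent.Lib.PSLBinary.Cyclic
import Cfsg.Agent.Lib.PSLBinary.Nine
import Cfsg.Agent.Lib.PSLBinary.Seven
import Cfsg.Agent.Lib.PSLBinary.Stabilisers

/-!
# The binary coset actions of `PSL₂(q)`
-/

set_option autoImplicit false

namespace Cfsg.Agent.Lib.PSLBinary

open Cfsg.Agent.Lib.SuzukiBinary Cfsg.Agent.Lib.SL2

variable {F : Type*} [Field F] [Fintype F]

theorem exists_pow_two (h2 : (2 : F) = 0) : ∃ a, 0 < a ∧ Fintype.card F = 2 ^ a := by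
  have hchar : ringChar F = 2 := by
    by_contra hc
    exact Ring.two_ne_zero hc h2
  obtain ⟨n, -, hn⟩ := FiniteField.card F (ringChar F)
  exact ⟨n, n.2, by rw [hn, hchar]⟩

theorem two_eq_zero_of_pow {a : ℕ} (hq : 4 ≤ Fintype.card F) (ha : Fintype.card F = 2 ^ a) :
    (2 : F) = 0 := by
  by_contra h2
  have h := two_ne_zero_iff_odd.1 h2
  rw [ha] at h hq
  rcases Nat.eq_zero_or_pos a with rfl | ha0
  · simp at hq
  · exact (Nat.not_odd_iff_even.2 (even_iff_two_dvd.2 (dvd_pow_self 2 ha0.ne'))) h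

theorem no_root_iff_odd_exp (h2 : (2 : F) = 0) {a : ℕ} (ha : Fintype.card F = 2 ^ a) :
    (∀ w : F, w ^ 2 + w + 1 ≠ 0) ↔ Odd a := by
  have hmod : ∀ n : ℕ, 2 ^ (2 * n) % 3 = 1 := fun n => by
    rw [pow_mul, Nat.pow_mod]; norm_num
  constructor
  · intro hno
    by_contra hodd
    obtain ⟨n, rfl⟩ := Nat.not_odd_iff_even.1 hodd
    have h3 : 3 ∣ Nat.card Fˣ := by
      rw [Nat.card_units, Nat.card_eq_fintype_card, ha, ← two_mul]
      have := hmod n
      have : 0 < 2 ^ (2 * n) := by positivity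
      omega
    obtain ⟨u, hu⟩ := exists_prime_orderOf_dvd_card' 3 h3
    refine hno (u : F) ?_
    have hu3 : (u : F) ^ 3 = 1 := by
      rw [← Units.val_pow_eq_pow_val, ← hu, pow_orderOf_eq_one, Units.val_one]
    have hu1 : (u : F) - 1 ≠ 0 := fun h => by
      rw [show u = 1 from Units.ext (by simpa using sub_eq_zero.1 h), orderOf_one] at hu
      omega
    exact (mul_eq_zero.1 (show ((u : F) - 1) * ((u : F) ^ 2 + (u : F) + 1) = 0 by
      linear_combination hu3)).resolve_left hu1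
  · intro ⟨n, hn⟩ w hw
    have hw0 : w ≠ 0 := by rintro rfl; simp at hw
    have hu : Units.mk0 w hw0 ^ 3 = 1 := Units.ext (by
      rw [Units.val_pow_eq_pow_val, Units.val_mk0, Units.val_one]
      linear_combination (w - 1) * hw)
    have hu1 : Units.mk0 w hw0 ≠ 1 := fun h => by
      have h' : w = 1 := congrArg Units.val h
      subst h'
      exact one_ne_zero (show (1 : F) = 0 by linear_combination hw - h2)
    have hd := orderOf_dvd_natCard (Units.mk0 w hw0)
    rw [orderOf_eq_prime (p := 3) hu hu1, Nat.card_units, Nat.card_eq_fintype_card, ha, hn,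
      pow_succ] at hd
    have := hmod n
    omega

/-- The translations as a Sylow 2-subgroup. -/
theorem exists_sylow_translations (h2 : (2 : F) = 0) :
    ∃ S : Sylow 2 (PSLtwo F), (S : Subgroup (PSLtwo F)) = (proj.comp upperHom).range := by
  haveI : Fact (Nat.Prime 2) := ⟨Nat.prime_two⟩
  obtain ⟨a, ha0, ha⟩ := exists_pow_two h2
  have hc : Nat.card ((proj.comp upperHom).range : Subgroup (PSLtwo F)) = Fintype.card F := by
    have hinj : Function.Injective (proj.comp upperHom : Multiplicative F →* PSLtwo F) := fun x y e => by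
      apply upperHom_injective
      rcases proj_eq_proj_iff.1 e with h | h
      · exact h.symm
      · rw [h, show -upperHom x = -1 * upperHom x by simp, neg_one_eq_one h2, one_mul]
    rw [← Nat.card_congr (MonoidHom.ofInjective hinj).toEquiv, Nat.card_eq_fintype_card,
      Fintype.card_multiplicative]
  refine ⟨Sylow.ofCard _ (hc.trans ?_), rfl⟩
  rw [card_PSL, ha]
  have hg : Nat.gcd 2 (2 ^ a - 1) = 1 := by
    have : 2 ∣ 2 ^ a := dvd_pow_self 2 ha0.ne'
    have : 0 < 2 ^ a := by positivity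
    rw [Nat.gcd_rec, show (2 ^ a - 1) % 2 = 1 by omega]
    simp
  rw [hg, Nat.div_one, Nat.factorization_mul (by positivity) ?_, Finsupp.add_apply,
    Nat.prime_two.factorization_pow, Finsupp.single_eq_same, Nat.factorization_eq_zero_of_not_dvd ?_,
    add_zero]
  · have h1 : 2 ∣ (2 ^ a) ^ 2 := dvd_pow (dvd_pow_self 2 ha0.ne') two_ne_zero
    have : 0 < (2 ^ a) ^ 2 := by positivity
    omega
  · have h1 : 2 ≤ 2 ^ a := Nat.le_self_pow ha0.ne' 2
    have : 2 * 2 ≤ (2 ^ a) ^ 2 := by rw [sq]; exact Nat.mul_le_mul h1 h1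
    omega

/-- Sylow 2-subgroups give binary actions in characteristic two. -/
theorem binR_sylow (h2 : (2 : F) = 0) (P : Sylow 2 (PSLtwo F)) :
    BinR (P : Subgroup (PSLtwo F)) := by
  haveI : Fact (Nat.Prime 2) := ⟨Nat.prime_two⟩
  obtain ⟨S, hS⟩ := exists_sylow_translations (F := F) h2
  obtain ⟨g, hg⟩ := MulAction.exists_smul_eq (PSLtwo F) S P
  have h := (hS ▸ binR_translations h2 : BinR (S : Subgroup (PSLtwo F))).map (MulAut.conj g)
  rw [← hg, Sylow.coe_subgroup_smul, Subgroup.pointwise_smul_def]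
  exact h

/-- A subgroup with a nontrivial unipotent element. -/
theorem sylow_of_binR_unip (h4 : 4 ≤ Fintype.card F) {H : Subgroup (PSLtwo F)} (hH : H ≠ ⊤)
    (hb : BinR H) {x : PSLtwo F} (hxH : x ∈ H) (hx : IsUnip x) (hx1 : x ≠ 1) :
    (2 : F) = 0 ∧ ∃ P : Sylow 2 (PSLtwo F), H = P := by
  haveI : Fact (Nat.Prime 2) := ⟨Nat.prime_two⟩
  obtain ⟨g, rfl, ht⟩ := hx
  obtain ⟨k, c, hk⟩ := exists_conj_upper ht
  have hc : c ≠ 0 := by
    rintro rfl
    rw [upper_zero] at hk
    exact hx1 (by rw [conj_eq_one_iff.1 hk, map_one])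
  let κ : MulAut (PSLtwo F) := MulAut.conj (proj k)
  set K := H.map κ.toMonoidHom with hK
  have hbK : BinR K := hb.map κ
  have hKtop : K ≠ ⊤ := fun e => hH (by
    refine Subgroup.map_injective (f := κ.toMonoidHom) κ.injective ?_
    rw [← hK, e]
    exact (Subgroup.map_top_of_surjective _ κ.surjective).symm)
  have hcK : c ∈ transl K := ⟨proj g, hxH, by simp [κ, ← hk, MulAut.conj_apply]⟩
  have h0 : transl K ≠ ⊥ := fun e => hc (by rw [e] at hcK; exact AddSubgroup.mem_bot.1 hcK)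
  by_cases hU : transl K = ⊤
  swap
  · by_cases h9 : Fintype.card F = 9
    · exact absurd hbK (not_binR_nine h9 hKtop h0 hU)
    · exact absurd hbK (not_binR_of_transl h4 h9 hKtop h0 hU)
  have hu : ∀ t, proj (upper t) ∈ K := fun t => by
    have : t ∈ transl K := hU ▸ AddSubgroup.mem_top t
    exact this
  have h2 : (2 : F) = 0 := by_contra fun h2 => not_binR_of_full_odd h2 hKtop hu hbK
  refine ⟨h2, ?_⟩
  have hM := diagPart_eq_bot_of_binR h2 hKtop hu hbK
  have hKeq : K = (proj.comp upperHom).range := by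
    refine le_antisymm (fun z hz => ?_) ?_
    · obtain ⟨n, rfl⟩ := proj_surjective z
      obtain ⟨h10, m, hm, h00⟩ := (proj_mem_iff hKtop hu n).1 hz
      rw [hM, Subgroup.mem_bot] at hm
      rw [hm, Units.val_one] at h00
      have hd := det_entries n
      rw [h10, h00, mul_zero, sub_zero, one_mul] at hd
      exact ⟨Multiplicative.ofAdd (n 0 1), congrArg proj (ext_entries (by simp [upperHom, h00])
        (by simp [upperHom]) (by simp [upperHom, h10]) (by simp [upperHom, hd]))⟩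
    · rintro z ⟨t, rfl⟩
      exact hu _
  obtain ⟨S, hS⟩ := exists_sylow_translations (F := F) h2
  refine ⟨(proj k)⁻¹ • S, ?_⟩
  rw [Sylow.coe_subgroup_smul, hS, ← hKeq, hK]
  ext z
  simp only [Subgroup.mem_pointwise_smul_iff_inv_smul_mem, Subgroup.mem_map, κ,
    MulEquiv.coe_toMonoidHom, MulAut.smul_def, MulAut.conj_apply]
  constructor
  · intro hz
    exact ⟨z, hz, by simp [mul_assoc]⟩
  · rintro ⟨y, hy, e⟩
    have e' : y = z := by
      simp [mul_assoc] at e
      exact e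
    exact e' ▸ hy

/-- Order two in characteristic two and order three in characteristic three are unipotent. -/
theorem isUnip_of_orderOf {x : PSLtwo F} (h : (orderOf x = 2 ∧ (2 : F) = 0) ∨
    (orderOf x = 3 ∧ (3 : F) = 0)) : IsUnip x := by
  obtain ⟨g, rfl⟩ := proj_surjective x
  have hne : proj g ≠ 1 := fun e => by
    rw [e, orderOf_one] at h
    omega
  rcases h with ⟨ho, h2⟩ | ⟨ho, h3⟩
  · refine ⟨g, rfl, ?_⟩
    rw [(tr_of_pow hne).1 (by have h := pow_orderOf_eq_one (proj g); rwa [ho, sq] at h), h2]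
  · have ht := (tr_of_pow hne).2.1 (by have h := pow_orderOf_eq_one (proj g); rwa [ho] at h)
    rcases mul_self_eq_one_iff.1 ht with e | e
    · exact ⟨-g, proj_neg g, by rw [tr_neg, e]; linear_combination -h3⟩
    · exact ⟨g, rfl, by rw [e]; linear_combination -h3⟩

/-- A subgroup without nontrivial unipotent elements. -/
theorem card_three_of_binR (h4 : 4 ≤ Fintype.card F) (h5 : Fintype.card F ≠ 5)
    {H : Subgroup (PSLtwo F)} (hbot : H ≠ ⊥) (hb : BinR H)
    (hno : ∀ x ∈ H, IsUnip x → x = 1) :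
    (2 : F) = 0 ∧ (∀ w : F, w ^ 2 + w + 1 ≠ 0) ∧ Nat.card H = 3 := by
  have noInv : (2 : F) = 0 → 2 ∣ Nat.card H → False := fun h2 hd => by
    haveI : Fact (Nat.Prime 2) := ⟨Nat.prime_two⟩
    obtain ⟨x, hx⟩ := exists_prime_orderOf_dvd_card' (G := H) 2 hd
    rw [← Subgroup.orderOf_coe] at hx
    have := hno x x.2 (isUnip_of_orderOf (Or.inl ⟨hx, h2⟩))
    rw [this, orderOf_one] at hx
    omega
  have q7 : Odd (Fintype.card F) → 7 ≤ Fintype.card F := fun h => by
    obtain ⟨m, hm⟩ := h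
    omega
  have polyh : ∀ r : ℕ, r.Prime → 3 ≤ r → (Nat.card H = 12 ∨ Nat.card H = 24 ∨ Nat.card H = 60) →
      (Nonempty (H ≃* alternatingGroup (Fin 4)) ∨ Nonempty (H ≃* Equiv.Perm (Fin 4)) ∨
        Nonempty (H ≃* alternatingGroup (Fin 5))) → False := by
    intro r _ _ hc hiso
    have hodd : Odd (Fintype.card F) := two_ne_zero_iff_odd.1 fun h2 => noInv h2 (by
      rcases hc with e | e | e <;> rw [e] <;> norm_num)
    have h7 := q7 hodd
    by_cases h9 : Fintype.card F = 9
    · haveI : Fact (Nat.Prime 3) := ⟨Nat.prime_three⟩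
      have h3 : (3 : F) = 0 := by
        have h := FiniteField.cast_card_eq_zero F
        rw [h9] at h
        exact (mul_self_eq_zero (a := (3 : F))).1 (by push_cast at h; linear_combination h)
      obtain ⟨x, hx⟩ := exists_prime_orderOf_dvd_card' (G := H) 3 (by
        rcases hc with e | e | e <;> rw [e] <;> norm_num)
      rw [← Subgroup.orderOf_coe] at hx
      have := hno x x.2 (isUnip_of_orderOf (Or.inr ⟨hx, h3⟩))
      rw [this, orderOf_one] at hx
      omega
    by_cases h7' : Fintype.card F = 7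
    · have hG : Nat.card (PSLtwo F) = 168 := by
        rw [card_PSL, h7']; rfl
      have hd : Nat.card H ∣ 168 := hG ▸ Subgroup.card_subgroup_dvd_card H
      have hiso' : Nonempty (H ≃* alternatingGroup (Fin 4)) ∨ Nonempty (H ≃* Equiv.Perm (Fin 4)) := by
        rcases hiso with h | h | ⟨⟨e⟩⟩
        · exact Or.inl h
        · exact Or.inr h
        · rw [Nat.card_congr e.toEquiv, Nat.card_eq_fintype_card,
            show Fintype.card (alternatingGroup (Fin 5)) = 60 by decide +kernel] at hd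
          norm_num at hd
      have e : F ≃+* ZMod 7 := (ZMod.ringEquivOfPrime F (by norm_num) (by
        first | exact h7' | (rw [Nat.card_eq_fintype_card, h7']))).symm
      set K := H.map (pslCongr e).toMonoidHom with hK
      let ε : H ≃* K := Subgroup.equivMapOfInjective H _ (pslCongr e).injective
      obtain ⟨y, hy, w, hw, k1, k2, k3, k4, k5, k6, k7⟩ := exists_gens_small (H := K)
        (hiso'.imp (fun ⟨i⟩ => ⟨ε.symm.trans i⟩) fun ⟨i⟩ => ⟨ε.symm.trans i⟩)
      exact not_binR_seven hy hw k1 k2 k3 k4 k5 k6 k7 (hb.map (pslCongr e))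
    exact not_binR_polyhedral hodd (by rcases hodd with ⟨m, hm⟩; omega) hiso hb
  rcases dickson_cases H with h | ⟨A, hA, hN⟩ | ⟨A, hA, -⟩ | ⟨hc, A, hA, ha⟩ | ⟨hc, A, hA, ha⟩ |
    ⟨A, t, hA, -⟩
  · exact absurd h hbot
  · rcases hA.normIn_cases with h | ⟨hcard, hinv⟩
    · haveI := hA.isCyclic
      obtain ⟨x, hx⟩ := IsCyclic.exists_generator (α := A)
      have hHA : H = Subgroup.zpowers (x : PSLtwo F) := by
        rw [← hN, h]
        refine le_antisymm (fun z hz => ?_) (Subgroup.zpowers_le.2 x.2)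
        obtain ⟨i, hi⟩ := hx ⟨z, hz⟩
        exact ⟨i, congrArg Subtype.val hi⟩
      have hx1 : (x : PSLtwo F) ≠ 1 := fun e => hbot (by rw [hHA, e, Subgroup.zpowers_one_eq_bot])
      rw [hHA] at hb ⊢
      exact of_binR_zpowers (hA.2 x x.2 hx1) hb
    · rw [hN] at hinv hcard
      have hodd : Odd (Fintype.card F) := two_ne_zero_iff_odd.1 fun h2 =>
        noInv h2 ⟨Nat.card A, hcard⟩
      obtain ⟨w, hw, hwA⟩ : ∃ w ∈ H, w ∉ A := by
        by_contra hh
        push Not at hh
        have h := Subgroup.card_le_of_le hh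
        have := hA.1.two_le_card
        omega
      exact absurd hb (not_binR_dihedral hodd (q7 hodd) hA hinv hw hwA)
  · obtain ⟨x, hx, hx1⟩ := hA.1.exists_ne_one
    exact absurd (hno x (hA.1.le hx) (hA.2 x hx)) hx1
  · obtain ⟨y, hy, hyc⟩ := exists_gen_of_prime hA Nat.prime_three le_rfl ha
    refine (polyh 3 Nat.prime_three le_rfl ?_ ?_).elim
    · omega
    · rcases hc with hc | hc
      · exact Or.inl (iso_alternating_four hy hyc hc)
      · exact Or.inr (Or.inl (iso_perm_four hy hyc hc))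
  · obtain ⟨y, hy, hyc⟩ := exists_gen_of_prime hA (by norm_num : Nat.Prime 5) (by norm_num) ha
    exact (polyh 5 (by norm_num) (by norm_num) (Or.inr (Or.inr hc))
      (Or.inr (Or.inr (iso_alternating_five hy hyc hc)))).elim
  · obtain ⟨x, hx, hx1⟩ := hA.1.exists_ne_one
    exact absurd (hno x (hA.1.le hx) (hA.2 x hx)) hx1

/-- The binary coset actions of `PSL₂(q)`, `q ≥ 4`, `q ≠ 5`. -/
theorem binR_iff_cases (h4 : 4 ≤ Fintype.card F) (h5 : Fintype.card F ≠ 5)
    {H : Subgroup (PSLtwo F)} (hH : H ≠ ⊤) :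
    BinR H ↔ H = ⊥ ∨ ((∃ a : ℕ, Fintype.card F = 2 ^ a) ∧ ∃ P : Sylow 2 (PSLtwo F), H = P) ∨
      ((∃ a : ℕ, Odd a ∧ Fintype.card F = 2 ^ a) ∧ Nat.card H = 3) := by
  constructor
  · intro hb
    by_cases hbot : H = ⊥
    · exact Or.inl hbot
    by_cases hu : ∃ x ∈ H, IsUnip x ∧ x ≠ 1
    · obtain ⟨x, hxH, hx, hx1⟩ := hu
      obtain ⟨h2, hP⟩ := sylow_of_binR_unip h4 hH hb hxH hx hx1
      obtain ⟨a, -, ha⟩ := exists_pow_two h2
      exact Or.inr (Or.inl ⟨⟨a, ha⟩, hP⟩)
    · push Not at hu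
      obtain ⟨h2, hw, h3⟩ := card_three_of_binR h4 h5 hbot hb hu
      obtain ⟨a, -, ha⟩ := exists_pow_two h2
      exact Or.inr (Or.inr ⟨⟨a, (no_root_iff_odd_exp h2 ha).1 hw, ha⟩, h3⟩)
  · rintro (rfl | ⟨⟨a, ha⟩, P, rfl⟩ | ⟨⟨a, hodd, ha⟩, h3⟩)
    · exact binR_bot
    · exact binR_sylow (two_eq_zero_of_pow h4 ha) P
    · have h2 := two_eq_zero_of_pow h4 ha
      exact binR_of_card_three h2 ((no_root_iff_odd_exp h2 ha).2 hodd) h3

end Cfsg.Agent.Lib.PSLBinary
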