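import Cfsg.Agent.Lib.SL2.Partition
import Cfsg.Agent.Lib.LinGroup.SLTwoSylow
import Cfsg.Agent.Lib.PSLBinary.Core

/-!
# Coset actions of `PSL₂(q)` with a proper nonzero group of translations in the stabiliser

If the translations in `H` form a nonzero proper subgroup of the field, the action on the cosets
of `H` is not binary (`q ≠ 9`).
-/

set_option autoImplicit false

namespace Cfsg.Agent.Lib.PSLBinary

open Cfsg.Agent.Lib.SuzukiBinary Cfsg.Agent.Lib.SL2

variable {F : Type*} [Field F]

/-- The translations lying in `H`. -/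
def transl (H : Subgroup (PSLtwo F)) : AddSubgroup F where
  carrier := {t | proj (upper t) ∈ H}
  zero_mem' := by simp [upper_zero]
  add_mem' {x y} hx hy := by
    have := H.mul_mem hx hy
    rwa [← map_mul, upper_mul] at this
  neg_mem' {x} hx := by
    have := H.inv_mem hx
    rwa [← map_inv, upper_inv] at this

theorem mem_transl {H : Subgroup (PSLtwo F)} {t : F} : t ∈ transl H ↔ proj (upper t) ∈ H := Iff.rfl

/-- All translations and one element outside the Borel subgroup generate. -/
theorem eq_top_of_transl {H : Subgroup (PSLtwo F)} (hu : ∀ t, proj (upper t) ∈ H) {n : SLtwo F}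
    (hn : proj n ∈ H) (h10 : n 1 0 ≠ 0) : H = ⊤ := by
  set K := H.comap proj with hK
  set c := n 1 0 with hc
  have hd := det_entries n
  have hu' : ∀ t, upper t ∈ K := hu
  have hlc : lower c ∈ K := by
    have e : n = upper ((n 0 0 - 1) / c) * lower c * upper ((n 1 1 - 1) / c) := by
      apply ext_entries <;>
        simp only [mul_00, mul_01, mul_10, mul_11, upper_00, upper_01, upper_10, upper_11,
          lower_00, lower_01, lower_10, lower_11]
      · field_simp; ring
      · field_simp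
        rw [← hc] at hd
        linear_combination -hd
      · rw [← hc]; ring
      · field_simp; ring
    have e' : lower c = (upper ((n 0 0 - 1) / c))⁻¹ * n * (upper ((n 1 1 - 1) / c))⁻¹ := by
      have : ∀ A B l x : SLtwo F, x = A * l * B → l = A⁻¹ * x * B⁻¹ := by
        rintro A B l x rfl; group
      exact this _ _ _ _ e
    rw [e']
    exact K.mul_mem (K.mul_mem (K.inv_mem (hu' _)) hn) (K.inv_mem (hu' _))
  have hl : ∀ t, lower t ∈ K := fun t => by
    let w : SLtwo F := upper (-c⁻¹) * lower c * upper (-c⁻¹)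
    have hw : w ∈ K := K.mul_mem (K.mul_mem (hu' _) hlc) (hu' _)
    have e : lower t = w * upper (-t / c ^ 2) * w⁻¹ := by
      rw [eq_mul_inv_iff_mul_eq]
      apply ext_entries <;>
        simp only [w, mul_00, mul_01, mul_10, mul_11, upper_00, upper_01, upper_10, upper_11,
          lower_00, lower_01, lower_10, lower_11] <;>
        field_simp <;> ring
    rw [e]
    exact K.mul_mem (K.mul_mem hw (hu' _)) (K.inv_mem hw)
  have := LinGroup.closure_upper_lower hu' hl
  rw [hK] at this
  refine (Subgroup.eq_top_iff' H).2 fun x => ?_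
  obtain ⟨g, rfl⟩ := proj_surjective x
  exact Subgroup.mem_comap.1 (this ▸ Subgroup.mem_top g)

/-- The translations fixing all points `π (upper v * diag m) H`, `m ∈ Λ`. -/
def atomOf (H : Subgroup (PSLtwo F)) (Λ : Finset Fˣ) : AddSubgroup F :=
  ⨅ m ∈ Λ, (transl H).comap (AddMonoidHom.mulLeft (((m⁻¹ : Fˣ) : F) ^ 2))

theorem mem_atomOf {H : Subgroup (PSLtwo F)} {Λ : Finset Fˣ} {x : F} :
    x ∈ atomOf H Λ ↔ ∀ m ∈ Λ, ((m⁻¹ : Fˣ) : F) ^ 2 * x ∈ transl H := by
  simp [atomOf, AddSubgroup.mem_iInf]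

theorem conj_diag_upper (m : Fˣ) (x v w : F) :
    (proj (upper x * (upper v * diag m)))⁻¹ * proj (upper w) * proj (upper v * diag m) =
      proj (upper (((m⁻¹ : Fˣ) : F) ^ 2 * (w - x))) := by
  rw [← map_inv, ← map_mul, ← map_mul]
  congr 1
  rw [mul_assoc, inv_mul_eq_iff_eq_mul]
  have h : diag m * upper (((m⁻¹ : Fˣ) : F) ^ 2 * (w - x)) = upper (w - x) * diag m := by
    rw [← mul_inv_eq_iff_eq_mul, diag_conj_upper, ← mul_assoc, ← mul_pow, ← Units.val_mul,
      mul_inv_cancel, Units.val_one, one_pow, one_mul]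
  rw [mul_assoc (upper x), mul_assoc (upper v), h, ← mul_assoc, ← mul_assoc, ← mul_assoc,
    upper_mul, upper_mul, upper_mul]
  congr 2
  ring

/-- Squares outside a proper subfield with square complement. -/
theorem exists_sq_add_sq [Fintype F] (L : Subfield F) (hL : L ≠ ⊤) (h9 : Fintype.card F ≠ 9) :
    ∃ s t : F, s ^ 2 + t ^ 2 = 1 ∧ s ^ 2 ∉ L := by
  classical
  obtain ⟨y, hy⟩ : ∃ y, y ∉ L := by
    by_contra hno
    push Not at hno
    exact hL (eq_top_iff.2 fun x _ => hno x)
  by_cases h2 : (2 : F) = 0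
  · have hchar : ringChar F = 2 := by
      by_contra hc
      exact Ring.two_ne_zero hc h2
    obtain ⟨s, hs⟩ := FiniteField.isSquare_of_char_two hchar y
    refine ⟨s, s + 1, ?_, ?_⟩
    · linear_combination (s ^ 2 + s) * h2
    · rwa [sq, ← hs]
  by_contra hno
  push Not at hno
  have roots : ∀ T : Finset F, (0 : F) ∈ T →
      (Finset.univ.filter fun t : F => t ^ 2 ∈ T).card ≤ 2 * T.card - 1 := fun T h0 => by
    have e : (Finset.univ.filter fun t : F => t ^ 2 ∈ T) ⊆
        insert 0 (Finset.univ.filter fun t : F => t ^ 2 ∈ T.erase 0) := fun t ht => by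
      rcases eq_or_ne t 0 with rfl | ht0
      · exact Finset.mem_insert_self _ _
      · exact Finset.mem_insert_of_mem (by simpa [ht0] using ht)
    have hb : (Finset.univ.filter fun t : F => t ^ 2 ∈ T.erase 0).card ≤ 2 * (T.erase 0).card := by
      refine Finset.card_le_mul_card_image_of_maps_to (f := fun t : F => t ^ 2)
        (fun t ht => (Finset.mem_filter.1 ht).2) 2 fun a _ => ?_
      rcases (((Finset.univ.filter fun t : F => t ^ 2 ∈ T.erase 0)).filter fun t => t ^ 2 = a).eq_empty_or_nonempty with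
        h | ⟨t, ht⟩
      · rw [h, Finset.card_empty]; exact Nat.zero_le _
      · have ht' := (Finset.mem_filter.1 ht).2
        refine le_trans (Finset.card_le_card (t := {t, -t}) fun u hu => ?_) Finset.card_le_two
        have hu' := (Finset.mem_filter.1 hu).2
        rw [← ht', sq_eq_sq_iff_eq_or_eq_neg] at hu'
        simpa using hu'
    have := Finset.card_le_card e
    have := Finset.card_insert_le (0 : F) (Finset.univ.filter fun t : F => t ^ 2 ∈ T.erase 0)
    have := Finset.card_erase_of_mem h0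
    have : 1 ≤ T.card := Finset.card_pos.2 ⟨0, h0⟩
    omega
  set Ls : Finset F := Finset.univ.filter (· ∈ L) with hLs
  set S : Finset F := Finset.univ.filter fun s : F => s ^ 2 ∈ Ls with hS
  have hSc : S.card ≤ 2 * Ls.card - 1 := roots Ls (by simp [hLs])
  have hm1 : (-1 : F) ∈ S := by simp [hS, hLs]
  have hp1 : (1 : F) ∈ S.erase (-1) := by
    simp only [Finset.mem_erase, ne_eq, hS, hLs, Finset.mem_filter, Finset.mem_univ, true_and,
      one_pow, one_mem, and_true]
    intro h
    exact h2 (by linear_combination h)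
  set T : Finset F := insert (-1) ((S.erase (-1)).image fun s => (1 - s) / (1 + s)) with hT
  have hall : ∀ t : F, t ^ 2 ∈ T := fun t => by
    by_cases ht : 1 + t ^ 2 = 0
    · exact Finset.mem_insert.2 (Or.inl (by linear_combination ht))
    refine Finset.mem_insert_of_mem (Finset.mem_image.2 ⟨(1 - t ^ 2) / (1 + t ^ 2), ?_, ?_⟩)
    · refine Finset.mem_erase.2 ⟨fun h => ?_, ?_⟩
      · rw [div_eq_iff ht] at h
        exact h2 (by linear_combination h)
      · simp only [hS, hLs, Finset.mem_filter, Finset.mem_univ, true_and]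
        exact hno _ (2 * t / (1 + t ^ 2)) (by field_simp; ring)
    · rw [show 1 + (1 - t ^ 2) / (1 + t ^ 2) = 2 / (1 + t ^ 2) by field_simp; ring,
        show 1 - (1 - t ^ 2) / (1 + t ^ 2) = 2 * t ^ 2 / (1 + t ^ 2) by field_simp; ring,
        div_div_div_cancel_right₀ ht, mul_div_cancel_left₀ _ h2]
  have h0T : (0 : F) ∈ T := Finset.mem_insert_of_mem (Finset.mem_image.2 ⟨1, hp1, by simp⟩)
  have hT1 := Finset.card_insert_le (-1 : F) ((S.erase (-1)).image fun s => (1 - s) / (1 + s))
  have hT2 := Finset.card_image_le (s := S.erase (-1)) (f := fun s => (1 - s) / (1 + s))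
  have hT3 := Finset.card_erase_of_mem hm1
  have hTc := roots T h0T
  rw [Finset.filter_true_of_mem fun t _ => hall t, Finset.card_univ] at hTc
  rw [← hT] at hT1
  have h3 : 3 ≤ Ls.card := by
    have : ({0, 1, -1} : Finset F) ⊆ Ls := by
      intro x hx
      simp only [Finset.mem_insert, Finset.mem_singleton] at hx
      simp only [hLs, Finset.mem_filter, Finset.mem_univ, true_and]
      rcases hx with rfl | rfl | rfl <;> simp
    refine le_trans (le_of_eq ?_) (Finset.card_le_card this)
    rw [Finset.card_insert_of_notMem (by simp), Finset.card_pair]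
    intro h
    exact h2 (by linear_combination h)
  have hsq : Ls.card * Ls.card ≤ Fintype.card F := by
    rw [← Finset.card_product, ← Finset.card_univ]
    refine Finset.card_le_card_of_injOn (fun p => p.1 + p.2 * y) (fun _ _ => Finset.mem_univ _) ?_
    rintro ⟨a, b⟩ hab ⟨a', b'⟩ hab' e
    simp only [hLs, Finset.coe_product, Set.mem_prod, Finset.mem_coe, Finset.mem_filter,
      Finset.mem_univ, true_and] at hab hab'
    simp only at e
    by_cases hb : b = b'
    · subst hb; simpa using e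
    · refine absurd ?_ hy
      rw [show y = (a' - a) / (b - b') by
        rw [eq_div_iff (sub_ne_zero.2 hb)]; linear_combination e]
      exact L.div_mem (L.sub_mem hab'.1 hab.1) (L.sub_mem hab.2 hab'.2)
  have h4 : Fintype.card F ≤ 4 * Ls.card - 3 := by omega
  have hl3 : Ls.card = 3 := by
    by_contra hne
    have h4' : 4 * Ls.card ≤ Ls.card * Ls.card := Nat.mul_le_mul_right _ (by omega)
    omega
  rw [hl3] at hsq h4
  omega

/-- A proper nonzero group of translations in the stabiliser prevents binarity. -/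
theorem not_binR_of_transl [Fintype F] (hF : 4 ≤ Fintype.card F) (h9 : Fintype.card F ≠ 9)
    {H : Subgroup (PSLtwo F)} (hH : H ≠ ⊤) (h0 : transl H ≠ ⊥) (hU : transl H ≠ ⊤) : ¬ BinR H := by
  classical
  intro hb
  have : IsSimpleGroup (PSLtwo F) :=
    Matrix.ProjectiveSpecialLinearGroup.rank_two_simple (by simpa using hF)
  -- a minimal nonzero intersection
  let 𝒮 : Set (Finset Fˣ) := {Λ | Λ.Nonempty ∧ atomOf H Λ ≠ ⊥}
  have h𝒮 : 𝒮.Nonempty := by
    refine ⟨{1}, Finset.singleton_nonempty _, fun h => h0 ?_⟩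
    rw [eq_bot_iff] at h ⊢
    intro x hx
    exact h (mem_atomOf.2 fun m hm => by
      rw [Finset.mem_singleton.1 hm]
      simpa using hx)
  obtain ⟨Λ, ⟨⟨m0, hm0⟩, hA0⟩, hmin⟩ :=
    Set.exists_min_image 𝒮 (fun Λ => Nat.card (atomOf H Λ)) (Set.toFinite _) h𝒮
  set A := atomOf H Λ with hA
  have htop : ∀ {Λ' : Finset Fˣ}, Λ'.Nonempty → atomOf H Λ' ≠ ⊤ := by
    rintro Λ' ⟨m, hm⟩ h
    refine hU (eq_top_iff.2 fun x _ => ?_)
    have := mem_atomOf.1 (h ▸ AddSubgroup.mem_top ((m : F) ^ 2 * x) :
      (m : F) ^ 2 * x ∈ atomOf H Λ') m hm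
    rwa [← mul_assoc, ← mul_pow, ← Units.val_mul, inv_mul_cancel, Units.val_one, one_pow,
      one_mul] at this
  have hmap : ∀ (k : Fˣ) (x : F), x ∈ atomOf H (Λ.image (k * ·)) ↔
      ((k⁻¹ : Fˣ) : F) ^ 2 * x ∈ A := fun k x => by
    simp only [hA, mem_atomOf, Finset.forall_mem_image, mul_inv_rev, Units.val_mul, mul_pow,
      mul_assoc]
  let L : Subfield F :=
    { carrier := {x | ∀ a ∈ A, x * a ∈ A}
      mul_mem' := fun {x y} hx hy a ha => by simpa [mul_assoc] using hx _ (hy a ha)
      one_mem' := fun a ha => by simpa using ha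
      add_mem' := fun {x y} hx hy a ha => by
        rw [add_mul]; exact A.add_mem (hx a ha) (hy a ha)
      zero_mem' := fun a _ => by simp
      neg_mem' := fun {x} hx a ha => by
        rw [neg_mul]; exact A.neg_mem (hx a ha)
      inv_mem' := fun x hx => by
        rcases eq_or_ne x 0 with rfl | hx0
        · simpa using hx
        have hp : ∀ n : ℕ, ∀ a ∈ A, x ^ n * a ∈ A := fun n => by
          induction n with
          | zero => intro a ha; simpa using ha
          | succ n ih => intro a ha; rw [pow_succ, mul_assoc]; exact ih _ (hx a ha)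
        have e : x⁻¹ = x ^ (Fintype.card F - 2) := inv_eq_of_mul_eq_one_right (by
          rw [← pow_succ', show Fintype.card F - 2 + 1 = Fintype.card F - 1 by omega,
            FiniteField.pow_card_sub_one_eq_one x hx0])
        rw [e]
        exact hp _ }
  obtain ⟨a, ha, ha0⟩ : ∃ a ∈ A, a ≠ 0 := by
    by_contra hno
    push Not at hno
    exact hA0 ((AddSubgroup.eq_bot_iff_forall _).2 hno)
  have hL : L ≠ ⊤ := fun h => htop ⟨m0, hm0⟩ (eq_top_iff.2 fun x _ => by
    have := (h ▸ Subfield.mem_top (x * a⁻¹) : x * a⁻¹ ∈ L) a ha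
    rwa [mul_assoc, inv_mul_cancel₀ ha0, mul_one] at this)
  -- translates of the atom are equal or meet trivially
  have hdisj : ∀ k : Fˣ, (k : F) ^ 2 ∉ L → ∀ x ∈ A, ((k⁻¹ : Fˣ) : F) ^ 2 * x ∈ A → x = 0 := by
    intro k hk x hx hkx
    by_contra hx0
    apply hk
    have hle : atomOf H (Λ ∪ Λ.image (k * ·)) ≤ A := fun z hz =>
      mem_atomOf.2 fun m hm => mem_atomOf.1 hz m (Finset.mem_union_left _ hm)
    have hne : atomOf H (Λ ∪ Λ.image (k * ·)) ≠ ⊥ := fun h => hx0 (by
      refine (AddSubgroup.eq_bot_iff_forall _).1 h x (mem_atomOf.2 fun m hm => ?_)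
      rcases Finset.mem_union.1 hm with hm | hm
      · exact mem_atomOf.1 hx m hm
      · exact mem_atomOf.1 ((hmap k x).2 hkx) m hm)
    have heq := AddSubgroup.eq_of_le_of_card_ge hle
      (hmin _ ⟨⟨m0, Finset.mem_union_left _ hm0⟩, hne⟩)
    have hkL : ((k⁻¹ : Fˣ) : F) ^ 2 ∈ L := fun b hb => by
      rw [← hmap k b]
      exact mem_atomOf.2 fun m hm => mem_atomOf.1
        (heq.symm ▸ hb : b ∈ atomOf H (Λ ∪ Λ.image (k * ·))) m (Finset.mem_union_right _ hm)
    have := L.inv_mem hkL
    rwa [← inv_pow, Units.val_inv_eq_inv_val, inv_inv] at this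
  obtain ⟨s, t, hst, hsL⟩ := exists_sq_add_sq L hL h9
  have hs0 : s ≠ 0 := by rintro rfl; exact hsL (by simp)
  have ht0 : t ≠ 0 := by
    rintro rfl
    exact hsL (by rw [show s ^ 2 = 1 by linear_combination hst]; exact L.one_mem)
  have htL : t ^ 2 ∉ L := fun h => hsL (by
    rw [show s ^ 2 = 1 - t ^ 2 by linear_combination hst]; exact L.sub_mem L.one_mem h)
  let c : Fin 3 → Fˣ := ![1, Units.mk0 s hs0, Units.mk0 t ht0]
  let d : Fin 3 → F := ![0, 0, a]
  let ι := Fin 3 × {m // m ∈ Λ} × F
  let e : ι ≃ Fin (Fintype.card ι) := Fintype.equivFin ι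
  let I : ι → PSLtwo F := fun i => proj (upper i.2.2 * diag (c i.1 * i.2.1.1))
  let J : ι → PSLtwo F := fun i => proj (upper (d i.1) * (upper i.2.2 * diag (c i.1 * i.2.1.1)))
  have key : ∀ (i : ι) (w : F), (((c i.1)⁻¹ : Fˣ) : F) ^ 2 * (w - d i.1) ∈ A →
      (J i)⁻¹ * proj (upper w) * I i ∈ H := fun i w hw => by
    simp only [I, J, conj_diag_upper]
    have := mem_atomOf.1 hw i.2.1.1 i.2.1.2
    rw [← mem_transl, mul_inv_rev, Units.val_mul, mul_pow, mul_assoc]
    exact this
  have hs2 : (((Units.mk0 s hs0)⁻¹ : Fˣ) : F) ^ 2 * (s ^ 2 * a) = a := by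
    simp [Units.val_inv_eq_inv_val]; field_simp
  have hwit : ∀ b b' : Fin 3, ∃ w : F, (((c b)⁻¹ : Fˣ) : F) ^ 2 * (w - d b) ∈ A ∧
      (((c b')⁻¹ : Fˣ) : F) ^ 2 * (w - d b') ∈ A := by
    have h12 : (((Units.mk0 t ht0)⁻¹ : Fˣ) : F) ^ 2 * (s ^ 2 * a - a) = -a := by
      simp [Units.val_inv_eq_inv_val]
      field_simp
      linear_combination hst
    intro b b'
    fin_cases b <;> fin_cases b'
    all_goals first
      | (refine ⟨0, ?_, ?_⟩ <;> simp [c, d] <;> done)
      | (refine ⟨a, ?_, ?_⟩ <;> simp [c, d, ha] <;> done)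
      | (refine ⟨s ^ 2 * a, ?_, ?_⟩ <;> first
          | (show (((Units.mk0 s hs0)⁻¹ : Fˣ) : F) ^ 2 * (s ^ 2 * a - 0) ∈ A
             rw [sub_zero, hs2]
             exact ha)
          | (show (((Units.mk0 t ht0)⁻¹ : Fˣ) : F) ^ 2 * (s ^ 2 * a - a) ∈ A
             rw [h12]
             exact A.neg_mem ha))
  have h2ι : 2 ≤ Fintype.card ι :=
    Fintype.one_lt_card_iff.2 ⟨(0, ⟨m0, hm0⟩, 0), (1, ⟨m0, hm0⟩, 0), fun h => by simpa using congrArg Prod.fst h⟩
  obtain ⟨g, hg⟩ := hb (Fintype.card ι) (fun i => I (e.symm i)) (fun i => J (e.symm i)) h2ι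
    fun i j _ => by
      obtain ⟨w, h1, h2⟩ := hwit (e.symm i).1 (e.symm j).1
      exact ⟨proj (upper w), key _ w h1, key _ w h2⟩
  have hg' : ∀ i : ι, (J i)⁻¹ * g * I i ∈ H := fun i => by simpa using hg (e i)
  -- the elements fixing the first two families
  let P : Finset Fˣ := Λ ∪ Λ.image (c 1 * ·)
  have hgP : ∀ v : F, ∀ m ∈ P,
      (proj (upper v * diag m))⁻¹ * g * proj (upper v * diag m) ∈ H := by
    intro v m hm
    rcases Finset.mem_union.1 hm with hm | hm
    · have := hg' (0, ⟨m, hm⟩, v)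
      simp only [I, J] at this
      simpa [c, d, upper_zero] using this
    · obtain ⟨m', hm', rfl⟩ := Finset.mem_image.1 hm
      have := hg' (1, ⟨m', hm'⟩, v)
      simp only [I, J] at this
      simpa [c, d, upper_zero] using this
  let N : Subgroup (PSLtwo F) := ⨅ v : F, ⨅ m ∈ P,
    H.map (MulAut.conj (proj (upper v * diag m))).toMonoidHom
  have hNmem : ∀ x, x ∈ N ↔ ∀ v : F, ∀ m ∈ P,
      (proj (upper v * diag m))⁻¹ * x * proj (upper v * diag m) ∈ H := fun x => by
    simp only [N, Subgroup.mem_iInf]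
    refine forall_congr' fun v => forall_congr' fun m => forall_congr' fun _ => ⟨?_, fun h => ?_⟩
    · rintro ⟨h, hh, rfl⟩
      simpa [MulAut.conj_apply, mul_assoc] using hh
    · exact ⟨_, h, by simp [MulAut.conj_apply, mul_assoc]⟩
  have hgN : g ∈ N := (hNmem g).2 hgP
  have hconjN : ∀ (w : F) (x : PSLtwo F), x ∈ N → proj (upper w) * x * (proj (upper w))⁻¹ ∈ N := by
    intro w x hx
    rw [hNmem] at hx ⊢
    intro v m hm
    have := hx (v - w) m hm
    have e : proj (upper (v - w) * diag m) = (proj (upper w))⁻¹ * proj (upper v * diag m) := by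
      rw [← map_inv, ← map_mul, ← mul_assoc, upper_inv, upper_mul, neg_add_eq_sub]
    rw [e] at this
    rwa [show (proj (upper v * diag m))⁻¹ * (proj (upper w) * x * (proj (upper w))⁻¹) *
      proj (upper v * diag m) = ((proj (upper w))⁻¹ * proj (upper v * diag m))⁻¹ * x *
        ((proj (upper w))⁻¹ * proj (upper v * diag m)) by group]
  have hnorm : ∀ w : F, proj (upper w) ∈ Subgroup.normalizer (N : Set (PSLtwo F)) := fun w => by
    refine Subgroup.mem_normalizer_iff.2 fun x => ⟨hconjN w x, fun hx => ?_⟩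
    have := hconjN (-w) _ hx
    rw [← upper_inv, map_inv] at this
    simpa [mul_assoc] using this
  have hm0P : m0 ∈ P := Finset.mem_union_left _ hm0
  have hNtop : N ≠ ⊤ := fun h => hH (eq_top_iff.2 fun x _ => by
    have := (hNmem _).1 (h ▸ Subgroup.mem_top
      (proj (upper 0 * diag m0) * x * (proj (upper 0 * diag m0))⁻¹) : _ ∈ N) 0 m0 hm0P
    simpa [mul_assoc] using this)
  have hatom : ∀ u : F, proj (upper u) ∈ N → u ∈ atomOf H P := fun u hu =>
    mem_atomOf.2 fun m hm => by
      have := (hNmem _).1 hu 0 m hm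
      rw [mem_transl]
      have e := conj_diag_upper m 0 0 u
      rw [upper_zero, one_mul, one_mul, sub_zero] at e
      rwa [upper_zero, one_mul, e] at this
  obtain ⟨n, rfl⟩ := proj_surjective g
  -- it lies in the Borel subgroup
  have h10 : n 1 0 = 0 := by
    by_contra h10
    have hN : N.Normal := Subgroup.normalizer_eq_top_iff.1
      (eq_top_of_transl hnorm (Subgroup.le_normalizer hgN) h10)
    rcases hN.eq_bot_or_eq_top with h | h
    · rw [h, Subgroup.mem_bot, proj_eq_one_iff, mem_center_iff_entries] at hgN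
      exact h10 hgN.2.1
    · exact hNtop h
  have hd := det_entries n
  rw [h10, mul_zero, sub_zero] at hd
  have h00 : n 0 0 ^ 2 = 1 := by
    by_contra h00
    have hz : n 0 0 ^ 2 - 1 ≠ 0 := sub_ne_zero.2 h00
    refine htop (Λ' := P) ⟨m0, hm0P⟩ (eq_top_iff.2 fun u _ => hatom u ?_)
    have hm := N.mul_mem hgN (hconjN (u / (n 0 0 ^ 2 - 1)) _ (N.inv_mem hgN))
    rw [← map_inv, ← map_inv, ← map_mul, ← map_mul, ← map_mul] at hm
    convert hm using 2
    apply ext_entries <;>
      simp only [mul_00, mul_01, mul_10, mul_11, inv_00, inv_01, inv_10, inv_11, upper_00, upper_01,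
        upper_10, upper_11, h10]
    · linear_combination -hd
    · field_simp
      linear_combination (u * n 0 0 ^ 2 - u) * hd
    · ring
    · linear_combination -hd
  obtain ⟨u, hu⟩ : ∃ u : F, proj n = proj (upper u) := by
    rcases sq_eq_one_iff.1 h00 with h | h
    · refine ⟨n 0 1, proj_eq_proj_iff.2 (Or.inl (ext_entries ?_ ?_ ?_ ?_))⟩ <;>
        simp [h, h10]
      rw [h, one_mul] at hd
      exact hd.symm
    · refine ⟨-n 0 1, proj_eq_proj_iff.2 (Or.inr (ext_entries ?_ ?_ ?_ ?_))⟩ <;>
        simp [h, h10]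
      rw [h] at hd
      linear_combination -hd
  rw [hu] at hgN hg'
  have hu0 : u = 0 := by
    have h := hatom u hgN
    refine hdisj (c 1) (by simpa [c] using hsL) u
      (mem_atomOf.2 fun m hm => mem_atomOf.1 h m (Finset.mem_union_left _ hm)) ?_
    rw [← hmap]
    exact mem_atomOf.2 fun m hm => mem_atomOf.1 h m (Finset.mem_union_right _ hm)
  subst hu0
  refine ha0 (hdisj (c 2) (by simpa [c] using htL) a ha (mem_atomOf.2 fun m hm => ?_))
  have := hg' (2, ⟨m, hm⟩, 0)
  simp only [I, J, conj_diag_upper] at this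
  rw [← mem_transl, zero_sub, mul_neg, neg_mem_iff] at this
  simpa [mul_inv_rev, Units.val_mul, mul_pow, mul_assoc, d] using this

end Cfsg.Agent.Lib.PSLBinary
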